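import Mathlib

set_option autoImplicit false
set_option linter.unusedSectionVars false

/-!
Sets of transvections in pairing form: every transvection lies in a block, and a block carries either
all transvections of a non-degenerate pairing or those of an alternating form.
-/

namespace CfsgLib.McLaughlin

variable {F X Y : Type*} [Field F] [AddCommGroup X] [Module F X] [AddCommGroup Y] [Module F Y]

variable {B : X →ₗ[F] Y →ₗ[F] F} {Φ : X → Y → Prop}

/-- The closure properties of the transvections of a group with no normal `p`-subgroup. -/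
structure Cfg (B : X →ₗ[F] Y →ₗ[F] F) (Φ : X → Y → Prop) : Prop where
  two : (2 : F) ≠ 0
  orth : ∀ x y, Φ x y → B x y = 0
  zero_left : ∀ y, Φ 0 y
  zero_right : ∀ x, Φ x 0
  smul_left : ∀ (c : F) x y, Φ x y → Φ (c • x) y
  smul_right : ∀ (c : F) x y, Φ x y → Φ x (c • y)
  add_left : ∀ x x' y, Φ x y → Φ x' y → Φ (x + x') y
  add_right : ∀ x y y', Φ x y → Φ x y' → Φ x (y + y')
  conj : ∀ x y v φ, Φ x y → Φ v φ → Φ (x + B x φ • v) (y - B v y • φ)
  comb : ∀ v r φ ψ, Φ (v + r) (φ + ψ) → Φ (v - r) (φ - ψ) → Φ v φ → B v ψ = 0 → B r φ = 0 →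
    B r ψ = 0 → Φ r ((2 : F) • ψ)
  partner : ∀ x y, Φ x y → x ≠ 0 → y ≠ 0 → ∃ w ψ, Φ w ψ ∧ B w y ≠ 0 ∧ B x ψ ≠ 0

/-- All transvections of a pair of subspaces. -/
def Full (B : X →ₗ[F] Y →ₗ[F] F) (Φ : X → Y → Prop) (S : Submodule F X) (A : Submodule F Y) : Prop :=
  ∀ x ∈ S, ∀ φ ∈ A, B x φ = 0 → Φ x φ

/-- A transvection meeting neither side of a pair of subspaces. -/
def Off (B : X →ₗ[F] Y →ₗ[F] F) (S : Submodule F X) (A : Submodule F Y) (u : X) (χ : Y) : Prop :=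
  (∀ φ ∈ A, B u φ = 0) ∧ ∀ x ∈ S, B x χ = 0

/-- Three pairs of dual vectors. -/
def Tri (B : X →ₗ[F] Y →ₗ[F] F) (S : Submodule F X) (A : Submodule F Y) : Prop :=
  ∃ (a : Fin 3 → X) (α : Fin 3 → Y), (∀ i, a i ∈ S) ∧ (∀ i, α i ∈ A) ∧
    ∀ i j, B (a i) (α j) = if i = j then 1 else 0

/-- A centre with two independent axes. -/
def Two (F : Type*) {X Y : Type*} [Field F] [AddCommGroup X] [AddCommGroup Y] [Module F Y]
    (Φ : X → Y → Prop) (v : X) : Prop :=
  v ≠ 0 ∧ ∃ φ φ', Φ v φ ∧ Φ v φ' ∧ φ ≠ 0 ∧ ∀ c : F, φ' ≠ c • φ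

/-- A block. -/
structure Blk (B : X →ₗ[F] Y →ₗ[F] F) (Φ : X → Y → Prop) (S : Submodule F X) (A : Submodule F Y) :
    Prop where
  nondeg : ∀ x ∈ S, (∀ φ ∈ A, B x φ = 0) → x = 0
  nondeg' : ∀ φ ∈ A, (∀ x ∈ S, B x φ = 0) → φ = 0
  closed : ∀ u χ, Φ u χ → u ≠ 0 → χ ≠ 0 → (u ∈ S ∧ χ ∈ A) ∨ Off B S A u χ
  centre : ∀ x ∈ S, x ≠ 0 → ∃ φ ∈ A, φ ≠ 0 ∧ Φ x φ
  axis : ∀ φ ∈ A, φ ≠ 0 → ∃ x ∈ S, x ≠ 0 ∧ Φ x φ
  kind : Full B Φ S A ∨ ∃ β : X →ₗ[F] Y, (∀ x ∈ S, β x ∈ A) ∧ (∀ φ ∈ A, ∃ x ∈ S, β x = φ) ∧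
    (∀ x ∈ S, ∀ y ∈ S, B x (β y) = -B y (β x)) ∧ (∀ x ∈ S, Φ x (β x)) ∧
      ∀ x ∈ S, x ≠ 0 → ∀ φ, Φ x φ → ∃ c : F, φ = c • β x

/-- A functional vanishing on the kernel of another on a subspace is a multiple of it there. -/
theorem prop_of_ker {W : Type*} [AddCommGroup W] [Module F W] {S : Submodule F W}
    {f g : W →ₗ[F] F} (h : ∀ x ∈ S, f x = 0 → g x = 0) :
    ∃ c : F, ∀ x ∈ S, g x = c * f x := by
  by_cases hf : ∀ x ∈ S, f x = 0
  · exact ⟨0, fun x hx => by rw [h x hx (hf x hx), zero_mul]⟩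
  push Not at hf
  obtain ⟨s, hs, hs0⟩ := hf
  refine ⟨g s / f s, fun x hx => ?_⟩
  have h1 := h (x - (f x / f s) • s) (S.sub_mem hx (S.smul_mem _ hs))
    (by rw [map_sub, map_smul, smul_eq_mul, div_mul_cancel₀ _ hs0, sub_self])
  rw [map_sub, map_smul, smul_eq_mul, sub_eq_zero] at h1
  rw [h1]
  field_simp

/-- A subspace is not the union of two proper ones. -/
theorem exists_avoid_two {W : Type*} [AddCommGroup W] [Module F W] {S P Q : Submodule F W}
    (hP : ¬ S ≤ P) (hQ : ¬ S ≤ Q) : ∃ x ∈ S, x ∉ P ∧ x ∉ Q := by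
  obtain ⟨a, ha, haP⟩ := SetLike.not_le_iff_exists.1 hP
  obtain ⟨b, hb, hbQ⟩ := SetLike.not_le_iff_exists.1 hQ
  by_cases haQ : a ∈ Q
  · by_cases hbP : b ∈ P
    · exact ⟨a + b, S.add_mem ha hb, fun h => haP ((P.add_mem_iff_left hbP).1 h),
        fun h => hbQ ((Q.add_mem_iff_right haQ).1 h)⟩
    · exact ⟨b, hb, hbP, hbQ⟩
  · exact ⟨a, ha, haP, haQ⟩

variable (hC : Cfg B Φ)
include hC

theorem flip_cfg : Cfg B.flip (fun y x => Φ x y) where
  two := hC.two
  orth y x h := hC.orth x y h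
  zero_left x := hC.zero_right x
  zero_right y := hC.zero_left y
  smul_left c y x h := hC.smul_right c x y h
  smul_right c y x h := hC.smul_left c x y h
  add_left y y' x h h' := hC.add_right x y y' h h'
  add_right y x x' h h' := hC.add_left x x' y h h'
  conj y x φ v h h' := by
    have := hC.conj x y (-v) φ h (by simpa using hC.smul_left (-1) v φ h')
    simpa [sub_eq_add_neg] using this
  comb φ ψ v r h1 h2 h3 e1 e2 e3 := by
    have := hC.comb v r φ ψ h1 h2 h3 e2 e1 e3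
    have h4 := hC.smul_right (2 : F)⁻¹ _ _ (hC.smul_left (2 : F) _ _ this)
    rwa [inv_smul_smul₀ hC.two] at h4
  partner y x h hy hx := by
    obtain ⟨w, ψ, h1, h2, h3⟩ := hC.partner x y h hx hy
    exact ⟨ψ, w, h1, h3, h2⟩

/-- One-sided meeting: the outer centre takes the inner axis. -/
theorem one_sided {v w : X} {φ ψ : Y} (hw : Φ w ψ) (hv : Φ v φ) (h : B w φ ≠ 0) (h0 : B v ψ = 0) :
    Φ v ψ := by
  have h1 := hC.add_left _ _ _ (hC.conj w ψ v φ hw hv) (by
    rw [h0, zero_smul, sub_zero]; exact hC.smul_left (-1) w ψ hw)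
  rw [h0, zero_smul, sub_zero, show w + B w φ • v + (-1 : F) • w = B w φ • v by module] at h1
  simpa [smul_smul, inv_mul_cancel₀ h] using hC.smul_left (B w φ)⁻¹ _ _ h1

/-- A new centre joins a full pair. -/
theorem grow {S : Submodule F X} {A : Submodule F Y} (hF : Full B Φ S A) (hT : ∃ (a b : X) (α β : Y),
      a ∈ S ∧ b ∈ S ∧ α ∈ A ∧ β ∈ A ∧ B a α = 1 ∧ B b β = 1 ∧ B a β = 0 ∧ B b α = 0)
    {u : X} {χ : Y} (hu : Φ u χ)
    (hgood : ∃ φ ∈ A, B u φ = 0 ∧ (∃ s ∈ S, B s φ = 0 ∧ B s χ ≠ 0) ∧ ∃ x ∈ S, B x φ ≠ 0) :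
    Full B Φ (S ⊔ Submodule.span F {u}) A := by
  obtain ⟨φ0, hφ0, hu0, ⟨s0, hs0, hs0φ, hs0χ⟩, x0, hx0, hx0φ⟩ := hgood
  have step : ∀ φ ∈ A, B u φ = 0 → Φ u φ := by
    intro φ hφ huφ
    by_cases hs : ∃ s ∈ S, B s φ = 0 ∧ B s χ ≠ 0
    · obtain ⟨s, hs, h1, h2⟩ := hs
      exact one_sided hC (hF s hs φ hφ h1) hu h2 huφ
    push Not at hs
    have h1 : Φ u φ0 := one_sided hC (hF s0 hs0 φ0 hφ0 hs0φ) hu hs0χ hu0
    have hsum : ∃ s ∈ S, B s (φ + φ0) = 0 ∧ B s χ ≠ 0 := by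
      by_contra hc
      push Not at hc
      obtain ⟨c1, e1⟩ := prop_of_ker (S := S) (f := B.flip φ) (g := B.flip χ) hs
      obtain ⟨c2, e2⟩ := prop_of_ker (S := S) (f := B.flip (φ + φ0)) (g := B.flip χ) hc
      have a1 := e1 s0 hs0
      have a2 := e2 s0 hs0
      simp only [LinearMap.flip_apply, LinearMap.add_apply, map_add, hs0φ, add_zero] at a1 a2
      have hφs : B s0 φ ≠ 0 := fun e => hs0χ (by rw [a1, e, mul_zero])
      have hc12 : c1 = c2 := mul_right_cancel₀ hφs (a1.symm.trans a2)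
      have hc1 : c1 ≠ 0 := fun e => hs0χ (by rw [a1, e, zero_mul])
      have b1 := e1 x0 hx0
      have b2 := e2 x0 hx0
      simp only [LinearMap.flip_apply, LinearMap.add_apply, map_add] at b1 b2
      rw [← hc12, b1, mul_add] at b2
      exact hx0φ ((mul_eq_zero.1 (by linear_combination -b2)).resolve_left hc1)
    obtain ⟨s, hs', h2, h3⟩ := hsum
    have h4 := one_sided hC (hF s hs' _ (A.add_mem hφ hφ0) h2) hu h3 (by rw [map_add, huφ, hu0, add_zero])
    have h5 := hC.add_right _ _ _ h4 (hC.smul_right (-1) _ _ h1)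
    rwa [show φ + φ0 + (-1 : F) • φ0 = φ by module] at h5
  intro x hx φ hφ hxφ
  obtain ⟨s, hs, z, hz, rfl⟩ := Submodule.mem_sup.1 hx
  obtain ⟨k, rfl⟩ := Submodule.mem_span_singleton.1 hz
  by_cases huφ : B u φ = 0
  · refine hC.add_left _ _ _ (hF s hs φ hφ ?_) (hC.smul_left k _ _ (step φ hφ huφ))
    simpa [huφ] using hxφ
  by_cases hk : k = 0
  · rw [hk, zero_smul, add_zero] at hxφ ⊢
    exact hF s hs φ hφ hxφ
  have hsφ : B s φ ≠ 0 := by
    intro e
    simp [e, hk, huφ] at hxφ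
  -- an axis independent of `φ` on the subspace, not killing `u`
  obtain ⟨γ, hγ, ⟨t, ht, htγ, htφ⟩, r, hr, hrγ⟩ :
      ∃ γ ∈ A, (∃ t ∈ S, B t γ = 0 ∧ B t φ ≠ 0) ∧ ∃ r ∈ S, B r γ ≠ 0 := by
    obtain ⟨a, b, α, β, ha, hb, hα, hβ, e11, e22, e12, e21⟩ := hT
    by_cases haφ : B a φ = 0
    · by_cases hbφ : B b φ = 0
      · refine ⟨α, hα, ⟨s - B s α • a, S.sub_mem hs (S.smul_mem _ ha), ?_, ?_⟩, a, ha, ?_⟩
        · simp [e11]
        · simp [haφ, hsφ]
        · rw [e11]; exact one_ne_zero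
      · exact ⟨α, hα, ⟨b, hb, e21, hbφ⟩, a, ha, by rw [e11]; exact one_ne_zero⟩
    · exact ⟨β, hβ, ⟨a, ha, e12, haφ⟩, b, hb, by rw [e22]; exact one_ne_zero⟩
  obtain ⟨α, hα, huα, t, ht, htα, htφ⟩ :
      ∃ α ∈ A, B u α ≠ 0 ∧ ∃ t ∈ S, B t α = 0 ∧ B t φ ≠ 0 := by
    by_cases huγ : B u γ = 0
    · refine ⟨φ + γ, A.add_mem hφ hγ, by rw [map_add, huγ, add_zero]; exact huφ, ?_⟩
      by_contra hc
      push Not at hc
      obtain ⟨c, e⟩ := prop_of_ker (S := S) (f := B.flip (φ + γ)) (g := B.flip φ) hc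
      have a1 := e t ht
      simp only [LinearMap.flip_apply, LinearMap.add_apply, map_add, htγ, add_zero] at a1
      have hc1 : c = 1 := mul_right_cancel₀ htφ (by rw [one_mul]; exact a1.symm)
      have a2 := e r hr
      simp only [LinearMap.flip_apply, LinearMap.add_apply, map_add, hc1, one_mul] at a2
      exact hrγ (by linear_combination -a2)
    · exact ⟨γ, hγ, huγ, t, ht, htγ, htφ⟩
  set τ := B u φ / B u α with hτ
  have h1 : Φ u (φ - τ • α) := step _ (A.sub_mem hφ (A.smul_mem _ hα)) (by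
    rw [map_sub, map_smul, smul_eq_mul, hτ, div_mul_cancel₀ _ huα, sub_self])
  set t' := (-τ / B t φ) • t with ht'
  have htα' : B t' α = 0 := by simp [ht', htα]
  have htφ' : B t' φ = -τ := by
    simp [ht', div_mul_cancel₀ _ htφ]
  have h2 := hC.conj u _ t' α h1 (hF t' (S.smul_mem _ ht) α hα htα')
  rw [show φ - τ • α - B t' (φ - τ • α) • α = φ by
    rw [(B t').map_sub, (B t').map_smul, htα', smul_zero, sub_zero, htφ']; module] at h2
  -- adjust by the subspace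
  have h3 := hC.orth _ _ h2
  have h4 : Φ (s - (k * B u α) • t') φ := hF _ (S.sub_mem hs (S.smul_mem _ (S.smul_mem _ ht))) φ hφ (by
    simp only [map_add, map_smul, LinearMap.add_apply, LinearMap.smul_apply, smul_eq_mul] at h3 hxφ
    simp only [map_sub, map_smul, LinearMap.sub_apply, LinearMap.smul_apply, smul_eq_mul, htφ']
    rw [htφ'] at h3
    rw [hτ] at h3 ⊢
    field_simp at h3 ⊢
    linear_combination hxφ)
  have h5 := hC.add_left _ _ _ h4 (hC.smul_left k _ _ h2)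
  rwa [show s - (k * B u α) • t' + k • (u + B u α • t') = s + k • u by module] at h5

omit hC in
theorem Tri.mono {S S' : Submodule F X} {A A' : Submodule F Y} (h : Tri B S A) (hS : S ≤ S')
    (hA : A ≤ A') : Tri B S' A' := by
  obtain ⟨a, α, ha, hα, e⟩ := h
  exact ⟨a, α, fun i => hS (ha i), fun i => hA (hα i), e⟩

omit hC in
theorem Tri.flip {S : Submodule F X} {A : Submodule F Y} (h : Tri B S A) : Tri B.flip A S := by
  obtain ⟨a, α, ha, hα, e⟩ := h
  exact ⟨α, a, hα, ha, fun i j => by simp [e, eq_comm]⟩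

/-- A full pair of rank three absorbs the centres meeting its axes. -/
theorem grow_tri {S : Submodule F X} {A : Submodule F Y} (hF : Full B Φ S A) (hT : Tri B S A)
    {u : X} {χ : Y} (hu : Φ u χ) (h : ∃ x ∈ S, B x χ ≠ 0) :
    Full B Φ (S ⊔ Submodule.span F {u}) A := by
  obtain ⟨a, α, ha, hα, e⟩ := hT
  obtain ⟨x, hx, hxχ⟩ := h
  refine grow hC hF ⟨a 0, a 1, α 0, α 1, ha 0, ha 1, hα 0, hα 1, by simp [e], by simp [e],
    by simp [e], by simp [e]⟩ hu ?_
  -- two combinations of the dual vectors killing `u`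
  obtain ⟨φ1, φ2, h1, h2, k1, k2, p, q, hp, hq, e11, e12, e21, e22⟩ : ∃ φ1 φ2 : Y, φ1 ∈ A ∧ φ2 ∈ A ∧
      B u φ1 = 0 ∧ B u φ2 = 0 ∧ ∃ p q : X, p ∈ S ∧ q ∈ S ∧ B p φ1 = 1 ∧ B p φ2 = 0 ∧ B q φ1 = 0 ∧
        B q φ2 = 1 := by
    by_cases h0 : B u (α 0) = 0
    · by_cases h1 : B u (α 1) = 0
      · exact ⟨α 0, α 1, hα 0, hα 1, h0, h1, a 0, a 1, ha 0, ha 1, by simp [e], by simp [e],
          by simp [e], by simp [e]⟩
      · exact ⟨α 0, α 2 - (B u (α 2) / B u (α 1)) • α 1, hα 0,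
          A.sub_mem (hα 2) (A.smul_mem _ (hα 1)), h0, by simp [h1], a 0, a 2, ha 0, ha 2,
          by simp [e], by simp [e], by simp [e], by simp [e]⟩
    · exact ⟨α 1 - (B u (α 1) / B u (α 0)) • α 0, α 2 - (B u (α 2) / B u (α 0)) • α 0,
        A.sub_mem (hα 1) (A.smul_mem _ (hα 0)), A.sub_mem (hα 2) (A.smul_mem _ (hα 0)), by simp [h0],
        by simp [h0], a 1, a 2, ha 1, ha 2, by simp [e], by simp [e], by simp [e], by simp [e]⟩
  by_cases g1 : ∃ s ∈ S, B s φ1 = 0 ∧ B s χ ≠ 0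
  · exact ⟨φ1, h1, k1, g1, p, hp, by rw [e11]; exact one_ne_zero⟩
  refine ⟨φ2, h2, k2, ?_, q, hq, by rw [e22]; exact one_ne_zero⟩
  by_contra g2
  push Not at g1 g2
  obtain ⟨c1, f1⟩ := prop_of_ker (S := S) (f := B.flip φ1) (g := B.flip χ) g1
  obtain ⟨c2, f2⟩ := prop_of_ker (S := S) (f := B.flip φ2) (g := B.flip χ) g2
  have a1 := f1 p hp
  have a2 := f2 p hp
  have a3 := f1 x hx
  simp only [LinearMap.flip_apply, e11, e12, mul_one, mul_zero] at a1 a2 a3
  exact hxχ (by rw [a3, ← a1, a2, zero_mul])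

/-- The starting configuration from a centre with two axes. -/
theorem exists_tri {v : X} (h : Two F Φ v) :
    ∃ S A, Full B Φ S A ∧ Tri B S A ∧ v ∈ S := by
  obtain ⟨hv, φ, φ', hφ, hφ', hφ0, hind⟩ := h
  obtain ⟨w, ψ, hw, hwφ, hvψ⟩ := hC.partner v φ hφ hv hφ0
  set φ2 := φ' - (B w φ' / B w φ) • φ with hφ2
  have hφ20 : φ2 ≠ 0 := fun e => hind (B w φ' / B w φ) (sub_eq_zero.1 e)
  have hwφ2 : B w φ2 = 0 := by simp [hφ2, hwφ]
  have hvφ2 : Φ v φ2 := by
    have := hC.add_right _ _ _ hφ' (hC.smul_right (-(B w φ' / B w φ)) _ _ hφ)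
    rwa [neg_smul, ← sub_eq_add_neg] at this
  have hvφ2' : B v φ2 = 0 := hC.orth _ _ hvφ2
  have hvφ' : B v φ = 0 := hC.orth _ _ hφ
  have hwψ : B w ψ = 0 := hC.orth _ _ hw
  have hwφ2Φ : Φ w φ2 := one_sided hC hvφ2 hw hvψ hwφ2
  -- the transvections of the plane
  set S := Submodule.span F ({v, w} : Set X) with hS
  set A := Submodule.span F ({φ, ψ, φ2} : Set Y) with hA
  have hF : Full B Φ S A := by
    intro x hx γ hγ hxγ
    obtain ⟨p, q, rfl⟩ := Submodule.mem_span_pair.1 hx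
    obtain ⟨r1, z, hz, rfl⟩ := Submodule.mem_span_insert.1 hγ
    obtain ⟨r2, r3, rfl⟩ := Submodule.mem_span_pair.1 hz
    have hx2 : Φ (p • v + q • w) φ2 :=
      hC.add_left _ _ _ (hC.smul_left p _ _ hvφ2) (hC.smul_left q _ _ hwφ2Φ)
    rw [← add_assoc]
    refine hC.add_right _ _ _ ?_ (hC.smul_right r3 _ _ hx2)
    simp only [map_add, map_smul, LinearMap.add_apply, LinearMap.smul_apply, smul_eq_mul, hvφ',
      hwψ, hvφ2', hwφ2, mul_zero, add_zero, zero_add] at hxγ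
    by_cases hq : q = 0
    · subst hq
      by_cases hp : p = 0
      · rw [hp, zero_smul, zero_smul, add_zero]; exact hC.zero_left _
      have hr2 : r2 = 0 := by
        simpa [hp, hvψ] using hxγ
      rw [hr2, zero_smul, zero_smul, add_zero, add_zero]
      exact hC.smul_right r1 _ _ (hC.smul_left p _ _ hφ)
    · -- conjugate the partner
      have h1 := hC.conj w ψ ((p / (q * B w φ)) • v) φ hw (hC.smul_left _ _ _ hφ)
      have e1 : w + B w φ • (p / (q * B w φ)) • v = q⁻¹ • (p • v + q • w) := by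
        rw [smul_add, smul_smul, smul_smul, smul_smul, inv_mul_cancel₀ hq, one_smul, add_comm,
          show B w φ * (p / (q * B w φ)) = q⁻¹ * p by field_simp]
      rw [e1] at h1
      have h2 := hC.smul_left q _ _ h1
      rw [smul_inv_smul₀ hq] at h2
      have h3 := hC.smul_right r2 _ _ h2
      rwa [show r2 • (ψ - B ((p / (q * B w φ)) • v) ψ • φ) = r1 • φ + r2 • ψ by
        rw [map_smul, LinearMap.smul_apply, smul_eq_mul, smul_sub, smul_smul,
          show r2 * (p / (q * B w φ) * B v ψ) = -r1 by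
            field_simp
            linear_combination hxγ]
        module] at h3
  obtain ⟨w3, ψ3, h3, hw3, hvψ3⟩ := hC.partner v φ2 hvφ2 hv hφ20
  set d := B w φ with hd
  set e := B v ψ with he
  set f := B w3 φ2 with hf
  refine ⟨S ⊔ Submodule.span F {w3}, A, ?_, ?_,
    Submodule.mem_sup_left (Submodule.subset_span (Set.mem_insert _ _))⟩
  · refine grow hC hF ⟨w, v, d⁻¹ • φ, e⁻¹ • ψ, Submodule.subset_span (by simp),
      Submodule.subset_span (by simp), A.smul_mem _ (Submodule.subset_span (by simp)),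
      A.smul_mem _ (Submodule.subset_span (by simp)), by simp [← hd, inv_mul_cancel₀ hwφ],
      by simp [← he, inv_mul_cancel₀ hvψ], by simp [hwψ], by simp [hvφ']⟩ h3 ?_
    exact ⟨φ - (B w3 φ / f) • φ2, A.sub_mem (Submodule.subset_span (by simp))
        (A.smul_mem _ (Submodule.subset_span (by simp))), by simp [← hf, hw3],
      ⟨v, Submodule.subset_span (by simp), by simp [hvφ', hvφ2'], hvψ3⟩,
      w, Submodule.subset_span (by simp), by simp [hwφ2]; exact hwφ⟩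
  · set z := w3 - (B w3 φ / d) • w - (B w3 ψ / e) • v with hz
    refine ⟨![w, v, f⁻¹ • z], ![d⁻¹ • φ, e⁻¹ • ψ, φ2], fun i => ?_, fun i => ?_, fun i j => ?_⟩
    · have hw' : w ∈ S := Submodule.subset_span (by simp)
      have hv' : v ∈ S := Submodule.subset_span (by simp)
      fin_cases i
      · exact Submodule.mem_sup_left hw'
      · exact Submodule.mem_sup_left hv'
      · refine Submodule.smul_mem _ _ (Submodule.sub_mem _ (Submodule.sub_mem _
          (Submodule.mem_sup_right (Submodule.mem_span_singleton_self _))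
          (Submodule.smul_mem _ _ (Submodule.mem_sup_left hw')))
          (Submodule.smul_mem _ _ (Submodule.mem_sup_left hv')))
    · fin_cases i
      · exact A.smul_mem _ (Submodule.subset_span (by simp))
      · exact A.smul_mem _ (Submodule.subset_span (by simp))
      · exact Submodule.subset_span (by simp)
    · have hd0 : d ≠ 0 := hwφ
      have he0 : e ≠ 0 := hvψ
      fin_cases i <;> fin_cases j <;>
        simp [hz, ← hd, ← he, ← hf, hwψ, hvφ', hwφ2, hvφ2', hd0, he0, hw3]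

variable [FiniteDimensional F X] [FiniteDimensional F Y]

/-- A centre with two axes lies in a full block. -/
theorem full_blk {v : X} (h : Two F Φ v) : ∃ S A, Blk B Φ S A ∧ v ∈ S := by
  obtain ⟨S0, A0, hF0, hT0, hv0⟩ := exists_tri hC h
  obtain ⟨⟨S, A⟩, ⟨hF, hT, hv⟩, hmax⟩ := wellFounded_gt.has_min
    {P : Submodule F X × Submodule F Y | Full B Φ P.1 P.2 ∧ Tri B P.1 P.2 ∧ v ∈ P.1}
    ⟨(S0, A0), hF0, hT0, hv0⟩
  have inS : ∀ u χ, Φ u χ → (∃ x ∈ S, B x χ ≠ 0) → u ∈ S := by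
    intro u χ hu hx
    by_contra hus
    refine hmax (S ⊔ Submodule.span F {u}, A) ⟨grow_tri hC hF hT hu hx,
      hT.mono le_sup_left le_rfl, Submodule.mem_sup_left hv⟩ ?_
    exact Prod.lt_iff.2 (Or.inl ⟨left_lt_sup.2 (by
      rw [Submodule.span_singleton_le_iff_mem]; exact hus), le_rfl⟩)
  have inA : ∀ u χ, Φ u χ → (∃ φ ∈ A, B u φ ≠ 0) → χ ∈ A := by
    intro u χ hu hφ
    by_contra hχ
    have hF' := grow_tri (flip_cfg hC) (S := A) (A := S) (fun y hy x hx e => hF x hx y hy e) hT.flip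
      hu (by simpa using hφ)
    refine hmax (S, A ⊔ Submodule.span F {χ}) ⟨fun x hx y hy e => hF' y hy x hx e,
      hT.mono le_rfl le_sup_left, hv⟩ ?_
    exact Prod.lt_iff.2 (Or.inr ⟨le_rfl, left_lt_sup.2 (by
      rw [Submodule.span_singleton_le_iff_mem]; exact hχ)⟩)
  obtain ⟨a, α, ha, hα, e⟩ := hT
  have nd : ∀ x ∈ S, (∀ φ ∈ A, B x φ = 0) → x = 0 := by
    intro r hr hr0
    by_contra hne
    have hα0 : α 0 ≠ 0 := fun e0 => by
      have := e 0 0
      rw [e0, map_zero, if_pos rfl] at this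
      exact zero_ne_one this
    obtain ⟨w, ψ, hw, h1, h2⟩ := hC.partner r (α 0) (hF r hr _ (hα 0) (hr0 _ (hα 0))) hne hα0
    exact h2 (hr0 ψ (inA w ψ hw ⟨α 0, hα 0, h1⟩))
  have nd' : ∀ φ ∈ A, (∀ x ∈ S, B x φ = 0) → φ = 0 := by
    intro r hr hr0
    by_contra hne
    have ha0 : a 0 ≠ 0 := fun e0 => by
      have := e 0 0
      rw [e0, map_zero, LinearMap.zero_apply, if_pos rfl] at this
      exact zero_ne_one this
    obtain ⟨w, ψ, hw, h1, h2⟩ := hC.partner (a 0) r (hF _ (ha 0) r hr (hr0 _ (ha 0))) ha0 hne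
    exact h1 (hr0 w (inS w ψ hw ⟨a 0, ha 0, h2⟩))
  refine ⟨S, A, ⟨nd, nd', fun u χ hu hu0 hχ0 => ?_, fun x hx _ => ?_, fun φ hφ _ => ?_, Or.inl hF⟩, hv⟩
  · by_cases h1 : ∃ x ∈ S, B x χ ≠ 0
    · have huS := inS u χ hu h1
      refine Or.inl ⟨huS, inA u χ hu ?_⟩
      by_contra hc
      push Not at hc
      exact hu0 (nd u huS hc)
    by_cases h2 : ∃ φ ∈ A, B u φ ≠ 0
    · have hχA := inA u χ hu h2
      push Not at h1
      exact absurd (nd' χ hχA h1) hχ0
    push Not at h1 h2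
    exact Or.inr ⟨h2, h1⟩
  · obtain ⟨γ, hγ, hγ0, hxγ⟩ : ∃ γ ∈ A, γ ≠ 0 ∧ B x γ = 0 := by
      by_cases h0 : B x (α 0) = 0
      · refine ⟨α 0, hα 0, fun e0 => ?_, h0⟩
        have := e 0 0
        rw [e0, map_zero, if_pos rfl] at this
        exact zero_ne_one this
      · refine ⟨α 1 - (B x (α 1) / B x (α 0)) • α 0, A.sub_mem (hα 1) (A.smul_mem _ (hα 0)),
          fun e0 => ?_, by simp [h0]⟩
        have := congrArg (B (a 1)) e0
        simp [e] at this
    exact ⟨γ, hγ, hγ0, hF x hx γ hγ hxγ⟩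
  · obtain ⟨y, hy, hy0, hyφ⟩ : ∃ y ∈ S, y ≠ 0 ∧ B y φ = 0 := by
      by_cases h0 : B (a 0) φ = 0
      · refine ⟨a 0, ha 0, fun e0 => ?_, h0⟩
        have := e 0 0
        rw [e0, map_zero, LinearMap.zero_apply, if_pos rfl] at this
        exact zero_ne_one this
      · refine ⟨a 1 - (B (a 1) φ / B (a 0) φ) • a 0, S.sub_mem (ha 1) (S.smul_mem _ (ha 0)),
          fun e0 => ?_, by simp [h0]⟩
        have := congrArg (fun z => B z (α 1)) e0
        simp [e] at this
    exact ⟨y, hy, hy0, hF y hy φ hφ hyφ⟩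

omit [FiniteDimensional F X] [FiniteDimensional F Y] in
/-- A transvection linked to one inside a block is inside. -/
theorem inside_of_linked {S : Submodule F X} {A : Submodule F Y} (hb : Blk B Φ S A) {x u : X}
    {γ χ : Y} (hx : x ∈ S) (hγ : γ ∈ A) (hu : Φ u χ) (hu0 : u ≠ 0) (hχ0 : χ ≠ 0)
    (h : B x χ ≠ 0 ∨ B u γ ≠ 0) : u ∈ S ∧ χ ∈ A := by
  rcases hb.closed u χ hu hu0 hχ0 with h' | h'
  · exact h'
  · rcases h with h | h
    · exact absurd (h'.2 x hx) h
    · exact absurd (h'.1 γ hγ) h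

omit [FiniteDimensional F X] [FiniteDimensional F Y] in
/-- The axis of a centre inside a block lies in the block. -/
theorem axis_mem {S : Submodule F X} {A : Submodule F Y} (hb : Blk B Φ S A) {u : X} {χ : Y}
    (hu : u ∈ S) (hu0 : u ≠ 0) (h : Φ u χ) : χ ∈ A := by
  by_cases hχ : χ = 0
  · rw [hχ]; exact A.zero_mem
  rcases hb.closed u χ h hu0 hχ with h' | h'
  · exact h'.2
  · exact absurd (hb.nondeg u hu h'.1) hu0

/-- Every transvection lies in a block. -/
theorem exists_blk {v : X} {φ : Y} (hv : Φ v φ) (hv0 : v ≠ 0) (hφ0 : φ ≠ 0) :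
    ∃ S A, Blk B Φ S A ∧ v ∈ S ∧ φ ∈ A := by
  classical
  obtain ⟨w, ψ0, hw0', hwφ, hvψ0⟩ := hC.partner v φ hv hv0 hφ0
  set ψ := (-(B w φ) / B v ψ0) • ψ0 with hψ
  have hw : Φ w ψ := hC.smul_right _ _ _ hw0'
  have hvψ : B v ψ = -B w φ := by
    rw [hψ, map_smul, smul_eq_mul, div_mul_cancel₀ _ hvψ0]
  clear_value ψ
  have hvφ : B v φ = 0 := hC.orth _ _ hv
  have hwψ : B w ψ = 0 := hC.orth _ _ hw
  let P : Submodule F X → (X →ₗ[F] Y) → Prop := fun S β =>
    v ∈ S ∧ w ∈ S ∧ β v = φ ∧ B v (β w) ≠ 0 ∧ (∀ x ∈ S, ∀ y ∈ S, B x (β y) = -B y (β x)) ∧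
      ∀ x ∈ S, (∃ y ∈ S, B x (β y) ≠ 0) → Φ x (β x)
  have hw_ne : w ≠ 0 := fun e => hwφ (by rw [e, map_zero, LinearMap.zero_apply])
  obtain ⟨ℓ, hℓw, hℓv⟩ : ∃ ℓ : X →ₗ[F] F, ℓ w = 1 ∧ ℓ v = 0 := by
    have hn : w ∉ Submodule.span F ({v} : Set X) := by
      intro h
      obtain ⟨c, rfl⟩ := Submodule.mem_span_singleton.1 h
      exact hwφ (by simp [hvφ])
    obtain ⟨f, hf, hle⟩ := Submodule.exists_le_ker_of_notMem hn
    exact ⟨(f w)⁻¹ • f, by simp [inv_mul_cancel₀ hf],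
      by simp [show f v = 0 from hle (Submodule.mem_span_singleton_self v)]⟩
  obtain ⟨m, hmv, hmw⟩ : ∃ m : X →ₗ[F] F, m v = 1 ∧ m w = 0 := by
    have hn : v ∉ Submodule.span F ({w} : Set X) := by
      intro h
      obtain ⟨c, hc⟩ := Submodule.mem_span_singleton.1 h
      apply hvψ0
      rw [← hc, map_smul, LinearMap.smul_apply, hC.orth _ _ hw0', smul_zero]
    obtain ⟨f, hf, hle⟩ := Submodule.exists_le_ker_of_notMem hn
    exact ⟨(f v)⁻¹ • f, by simp [inv_mul_cancel₀ hf],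
      by simp [show f w = 0 from hle (Submodule.mem_span_singleton_self w)]⟩
  have hβ0 : P (Submodule.span F ({v, w} : Set X)) (m.smulRight φ + ℓ.smulRight ψ) := by
    set β := m.smulRight φ + ℓ.smulRight ψ with hβ
    have bv : β v = φ := by simp [hβ, hmv, hℓv]
    have bw : β w = ψ := by simp [hβ, hmw, hℓw]
    refine ⟨Submodule.subset_span (by simp), Submodule.subset_span (by simp), bv,
      by rw [bw, hvψ, neg_ne_zero]; exact hwφ, fun x hx y hy => ?_, fun x hx _ => ?_⟩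
    · obtain ⟨a, b, rfl⟩ := Submodule.mem_span_pair.1 hx
      obtain ⟨c, d, rfl⟩ := Submodule.mem_span_pair.1 hy
      simp only [map_add, map_smul, bv, bw, LinearMap.add_apply, LinearMap.smul_apply, smul_eq_mul,
        hvφ, hwψ, hvψ]
      ring
    · obtain ⟨a, b, rfl⟩ := Submodule.mem_span_pair.1 hx
      rw [map_add, map_smul, map_smul, bv, bw]
      by_cases hb : b = 0
      · rw [hb, zero_smul, zero_smul, add_zero, add_zero]
        exact hC.smul_right a _ _ (hC.smul_left a _ _ hv)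
      have h1 := hC.conj w ψ ((a / (b * B w φ)) • v) φ hw (hC.smul_left _ _ _ hv)
      have h2 := hC.smul_right b _ _ (hC.smul_left b _ _ h1)
      convert h2 using 2
      · rw [smul_add, smul_smul, smul_smul, add_comm,
          show b * B w φ * (a / (b * B w φ)) = a by field_simp]
      · rw [map_smul, LinearMap.smul_apply, hvψ, smul_eq_mul, smul_sub, smul_smul,
          show b * (a / (b * B w φ) * -B w φ) = -a by field_simp]
        module
  obtain ⟨S, ⟨β, hvS, hwS, hβv, hvw, hsk, hG⟩, hmax⟩ := wellFounded_gt.has_min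
    {S : Submodule F X | ∃ β, P S β} ⟨_, _, hβ0⟩
  let rad : Submodule F X := ⨅ y ∈ S, LinearMap.ker (B.flip (β y))
  have hrad : ∀ x, x ∈ rad ↔ ∀ y ∈ S, B x (β y) = 0 := fun x => by
    simp [rad, Submodule.mem_iInf]
  have hnr : ∀ x, x ∉ rad → ∃ y ∈ S, B x (β y) ≠ 0 := fun x hx => by
    by_contra hc
    push Not at hc
    exact hx ((hrad x).2 hc)
  have hvnr : v ∉ rad := fun h => hvw ((hrad v).1 h w hwS)
  have hwnr : w ∉ rad := fun h => hvw (by rw [hsk v hvS w hwS, (hrad w).1 h v hvS, neg_zero])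
  have hradS : ¬ S ≤ rad := fun h => hvnr (h hvS)
  have hne : ∀ x ∈ S, x ∉ rad → x ≠ 0 ∧ β x ≠ 0 := fun x hx hxr => by
    obtain ⟨y, hy, e⟩ := hnr x hxr
    refine ⟨fun h => e (by rw [h, map_zero, LinearMap.zero_apply]), fun h => e ?_⟩
    rw [hsk x hx y hy, h, map_zero, neg_zero]
  -- one element inside a block brings `v` inside
  have finish : ∀ (S' : Submodule F X) (A' : Submodule F Y), Blk B Φ S' A' →
      ∀ s ∈ S, s ∉ rad → s ∈ S' → v ∈ S' ∧ φ ∈ A' := by
    intro S' A' hb s hs hsr hs'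
    obtain ⟨hs0, -⟩ := hne s hs hsr
    have hβs : β s ∈ A' := axis_mem hC hb hs' hs0 (hG s hs (hnr s hsr))
    obtain ⟨y, hy, h1, h2⟩ := exists_avoid_two (S := S) (P := LinearMap.ker ((B s).comp β))
      (Q := LinearMap.ker ((B v).comp β)) (fun h => hsr ((hrad s).2 h)) (fun h => hvnr ((hrad v).2 h))
    simp only [LinearMap.mem_ker, LinearMap.comp_apply] at h1 h2
    have hyr : y ∉ rad := fun h => h1 (by rw [hsk s hs y hy, (hrad y).1 h s hs, neg_zero])
    obtain ⟨hy0, hβy0⟩ := hne y hy hyr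
    obtain ⟨hy', hβy'⟩ := inside_of_linked hC hb hs' hβs (hG y hy (hnr y hyr)) hy0 hβy0 (Or.inl h1)
    exact inside_of_linked hC hb hy' hβy' hv hv0 hφ0 (Or.inr h2)
  by_cases hout : ∃ (S' : Submodule F X) (A' : Submodule F Y), Blk B Φ S' A' ∧
      ∃ s ∈ S, s ∉ rad ∧ s ∈ S'
  · obtain ⟨S', A', hb, s, hs, hsr, hs'⟩ := hout
    exact ⟨S', A', hb, finish S' A' hb s hs hsr hs'⟩
  have notwo : ∀ s ∈ S, s ∉ rad → ¬ Two F Φ s := by
    intro s hs hsr h2
    obtain ⟨S', A', hb, hs'⟩ := full_blk hC h2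
    exact hout ⟨S', A', hb, s, hs, hsr, hs'⟩
  have hline : ∀ (β : X →ₗ[F] Y) (a b : X), Φ a (β a) → Φ b (β b) → B a (β b) ≠ 0 →
      B b (β a) = -B a (β b) → ∀ k : F, Φ (a + k • b) (β (a + k • b)) := by
    intro β a b ha hb hab he k
    have h1 := hC.conj a (β a) ((k / B a (β b)) • b) (β b) ha (hC.smul_left _ _ _ hb)
    convert h1 using 2
    · rw [smul_smul, mul_div_cancel₀ _ hab]
    · rw [map_add, map_smul, map_smul, LinearMap.smul_apply, he, smul_eq_mul, mul_neg, neg_smul,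
        sub_neg_eq_add, div_mul_cancel₀ _ hab]
  -- a transvection meeting the current piece belongs to it
  have inside : ∀ u χ, Φ u χ → u ≠ 0 → χ ≠ 0 →
      ((∃ s ∈ S, B s χ ≠ 0) ∨ ∃ s ∈ S, B u (β s) ≠ 0) →
      u ∈ S ∧ u ∉ rad ∧ ∃ d : F, χ = d • β u := by
    intro u χ hu hu0 hχ0 hlink
    set f : X →ₗ[F] F := B.flip χ with hf
    set g : X →ₗ[F] F := (B u).comp β with hg
    have hf' : ∀ x, f x = B x χ := fun x => rfl
    have hg' : ∀ x, g x = B u (β x) := fun x => rfl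
    have huχ : B u χ = 0 := hC.orth _ _ hu
    have hfg : ∀ s ∈ S, s ∉ rad → (f s = 0 ↔ g s = 0) := by
      intro s hs hsr
      have hΦs := hG s hs (hnr s hsr)
      obtain ⟨hs0, hβs0⟩ := hne s hs hsr
      constructor <;> intro h <;> by_contra h'
      · refine notwo s hs hsr ⟨hs0, β s, χ, hΦs, one_sided hC hu hΦs h' h, hβs0, fun c e => ?_⟩
        rw [e, map_smul, smul_eq_mul] at huχ
        rcases mul_eq_zero.1 huχ with hc | hc
        · exact hχ0 (by rw [e, hc, zero_smul])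
        · exact h' hc
      · have h2 : Two F Φ u := ⟨hu0, χ, β s, hu, one_sided hC hΦs hu h' h, hχ0, fun c e => by
          have h3 := hC.orth _ _ hΦs
          rw [e, map_smul, smul_eq_mul] at h3
          rcases mul_eq_zero.1 h3 with hc | hc
          · exact hβs0 (by rw [e, hc, zero_smul])
          · exact h' hc⟩
        obtain ⟨S', A', hb, hu'⟩ := full_blk hC h2
        exact hout ⟨S', A', hb, s, hs, hsr,
          (inside_of_linked hC hb hu' (axis_mem hC hb hu' hu0 hu) hΦs hs0 hβs0 (Or.inr h')).1⟩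
    have hker : ∀ (f g : X →ₗ[F] F), (∀ s ∈ S, s ∉ rad → f s = 0 → g s = 0) →
        ∀ x ∈ S, f x = 0 → g x = 0 := by
      intro f g h x hx hfx
      by_cases hxr : x ∈ rad
      swap
      · exact h x hx hxr hfx
      obtain ⟨s, hs, hsr, hfs⟩ : ∃ s ∈ S, s ∉ rad ∧ f s = 0 := by
        by_cases h1 : f v = 0
        · exact ⟨v, hvS, hvnr, h1⟩
        refine ⟨w - (f w / f v) • v, S.sub_mem hwS (S.smul_mem _ hvS), fun hr => ?_, by simp [h1]⟩
        have h2 := (hrad _).1 hr v hvS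
        simp only [map_sub, map_smul, LinearMap.sub_apply, LinearMap.smul_apply, hβv, hvφ,
          smul_zero, sub_zero] at h2
        exact hwφ h2
      have h1 := h (x + s) (S.add_mem hx hs) (fun hr => hsr ((rad.add_mem_iff_right hxr).1 hr))
        (by rw [map_add, hfx, hfs, add_zero])
      rwa [map_add, h s hs hsr hfs, add_zero] at h1
    have k1 := hker f g fun s hs hsr => (hfg s hs hsr).1
    have k2 := hker g f fun s hs hsr => (hfg s hs hsr).2
    obtain ⟨c, hc⟩ := prop_of_ker k1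
    obtain ⟨s1, hs1, hs1f, hs1g⟩ : ∃ s ∈ S, f s ≠ 0 ∧ g s ≠ 0 := by
      rcases hlink with ⟨s, hs, h⟩ | ⟨s, hs, h⟩
      · exact ⟨s, hs, h, fun e => h (k2 s hs e)⟩
      · exact ⟨s, hs, fun e => h (k1 s hs e), h⟩
    have hc0 : c ≠ 0 := fun e => hs1g (by rw [hc s1 hs1, e, zero_mul])
    have hug : ¬ S ≤ LinearMap.ker g := fun h => hs1g (h hs1)
    by_cases huS : u ∈ S
    · have hur : u ∉ rad := fun h => hs1g ((hrad u).1 h s1 hs1)
      refine ⟨huS, hur, ?_⟩
      by_contra hd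
      push Not at hd
      exact notwo u huS hur ⟨hu0, β u, χ, hG u huS (hnr u hur), hu, (hne u huS hur).2, hd⟩
    exfalso
    obtain ⟨ℓ, hℓ1, hℓ⟩ : ∃ ℓ : X →ₗ[F] F, ℓ u = 1 ∧ ∀ x ∈ S, ℓ x = 0 := by
      obtain ⟨f, hf, hle⟩ := Submodule.exists_le_ker_of_notMem huS
      exact ⟨(f u)⁻¹ • f, by simp [inv_mul_cancel₀ hf],
        fun x hx => by simp [show f x = 0 from hle hx]⟩
    set β' := β + ℓ.smulRight (-c • χ - β u) with hβ'
    have hβ'S : ∀ x ∈ S, β' x = β x := fun x hx => by simp [hβ', hℓ x hx]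
    have hβ'u : β' u = -c • χ := by simp [hβ', hℓ1]
    have hΦu : Φ u (β' u) := by rw [hβ'u]; exact hC.smul_right _ _ _ hu
    have hsu : ∀ s ∈ S, B s (β' u) = -g s := fun s hs => by
      rw [hβ'u, map_smul, smul_eq_mul, hc s hs, hf']; ring
    have huu : B u (β' u) = 0 := hC.orth _ _ hΦu
    set S' := S ⊔ Submodule.span F {u} with hS'
    have hdec : ∀ x ∈ S', ∃ s ∈ S, ∃ k : F, x = s + k • u := fun x hx => by
      obtain ⟨s, hs, z, hz, rfl⟩ := Submodule.mem_sup.1 hx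
      obtain ⟨k, rfl⟩ := Submodule.mem_span_singleton.1 hz
      exact ⟨s, hs, k, rfl⟩
    have hβ'x : ∀ s ∈ S, ∀ k : F, β' (s + k • u) = β s + k • β' u := fun s hs k => by
      rw [map_add, map_smul, hβ'S s hs]
    have hsk' : ∀ x ∈ S', ∀ y ∈ S', B x (β' y) = -B y (β' x) := by
      intro x hx y hy
      obtain ⟨s, hs, k, rfl⟩ := hdec x hx
      obtain ⟨s', hs', k', rfl⟩ := hdec y hy
      simp only [hβ'x s hs, hβ'x s' hs', map_add, map_smul, LinearMap.add_apply,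
        LinearMap.smul_apply, smul_eq_mul, hsu s hs, hsu s' hs', huu, hg', hsk s hs s' hs']
      ring
    refine hmax S' ⟨β', Submodule.mem_sup_left hvS, Submodule.mem_sup_left hwS, by
      rw [hβ'S v hvS, hβv], by rw [hβ'S w hwS]; exact hvw, hsk', ?_⟩ (left_lt_sup.2 (by
      rw [Submodule.span_singleton_le_iff_mem]; exact huS))
    have hGS : ∀ s ∈ S, s ∉ rad → Φ s (β' s) := fun s hs hsr => by
      rw [hβ'S s hs]; exact hG s hs (hnr s hsr)
    have memS' : ∀ s ∈ S, ∀ k : F, s + k • u ∈ S' := fun s hs k => Submodule.add_mem_sup hs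
      (Submodule.smul_mem _ _ (Submodule.mem_span_singleton_self u))
    -- meeting the new centre
    have step0 : ∀ s ∈ S, s ∉ rad → g s ≠ 0 → ∀ k : F, Φ (s + k • u) (β' (s + k • u)) := by
      intro s hs hsr hgs k
      refine hline β' s u (hGS s hs hsr) hΦu (by rw [hsu s hs, neg_ne_zero]; exact hgs) ?_ k
      exact hsk' u (Submodule.mem_sup_right (Submodule.mem_span_singleton_self u)) s
        (Submodule.mem_sup_left hs)
    have hval : ∀ s ∈ S, ∀ k : F, ∀ y ∈ S, B (s + k • u) (β' y) = B s (β y) + k * g y :=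
      fun s hs k y hy => by
        rw [map_add, LinearMap.add_apply, map_smul, LinearMap.smul_apply, hβ'S y hy, smul_eq_mul, hg']
    have reduce : ∀ a ∈ S, ∀ y ∈ S, ∀ k : F, y ∉ rad → Φ (a + y + k • u) (β' (a + y + k • u)) →
        B (a + k • u) (β' y) ≠ 0 → Φ (a + k • u) (β' (a + k • u)) := by
      intro a ha y hy k hyr hΦ hne'
      have hy' : y ∈ S' := Submodule.mem_sup_left hy
      have e1 : B (a + y + k • u) (β' y) = B (a + k • u) (β' y) := by
        rw [show a + y + k • u = (a + k • u) + y by abel, map_add, LinearMap.add_apply, hβ'S y hy,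
          show B y (β y) = 0 from hC.orth _ _ (hG y hy (hnr y hyr)), add_zero]
      have := hline β' (a + y + k • u) y hΦ (hGS y hy hyr) (by rw [e1]; exact hne')
        (hsk' y hy' _ (memS' _ (S.add_mem ha hy) k)) (-1)
      rwa [show a + y + k • u + (-1 : F) • y = a + k • u by module] at this
    have step1 : ∀ s ∈ S, s ∉ rad → ∀ k : F, (∃ y ∈ S, B (s + k • u) (β' y) ≠ 0) →
        Φ (s + k • u) (β' (s + k • u)) := by
      intro s hs hsr k ⟨y0, hy0, hy0'⟩
      by_cases hgs : g s = 0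
      swap
      · exact step0 s hs hsr hgs k
      set h : X →ₗ[F] F := (B s).comp β + k • g with hh
      have hh' : ∀ y, h y = B s (β y) + k * g y := fun y => rfl
      obtain ⟨y1, hy1, hy1g, hy1h⟩ := exists_avoid_two (S := S) (P := LinearMap.ker g)
        (Q := LinearMap.ker h) hug (fun hle => hy0' (by rw [hval s hs k y0 hy0, ← hh']; exact hle hy0))
      rw [LinearMap.mem_ker] at hy1g hy1h
      obtain ⟨y, hy, hyr, hyg, hyh⟩ : ∃ y ∈ S, y ∉ rad ∧ g y ≠ 0 ∧ h y ≠ 0 := by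
        by_cases hr : y1 ∈ rad
        · refine ⟨y1 + s, S.add_mem hy1 hs, fun h' => hsr ((rad.add_mem_iff_right hr).1 h'),
            by rw [map_add, hgs, add_zero]; exact hy1g, ?_⟩
          rw [map_add, show h s = 0 by
            rw [hh', hgs, hC.orth _ _ (hG s hs (hnr s hsr)), mul_zero, add_zero], add_zero]
          exact hy1h
        · exact ⟨y1, hy1, hr, hy1g, hy1h⟩
      obtain ⟨t, ht, htr⟩ : ∃ t : F, t ≠ 0 ∧ s + t • y ∉ rad := by
        by_cases h1 : s + (1 : F) • y ∈ rad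
        · refine ⟨2, hC.two, fun h2 => hyr ?_⟩
          convert rad.sub_mem h2 h1 using 1
          module
        · exact ⟨1, one_ne_zero, h1⟩
      refine reduce s hs (t • y) (S.smul_mem t hy) k (fun h' => hyr ((rad.smul_mem_iff ht).1 h'))
        (step0 _ (S.add_mem hs (S.smul_mem t hy)) htr (by
          rw [map_add, hgs, map_smul, zero_add, smul_eq_mul]; exact mul_ne_zero ht hyg) k) ?_
      rw [map_smul, map_smul, smul_eq_mul, hval s hs k y hy, ← hh']
      exact mul_ne_zero ht hyh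
    have step2 : ∀ s ∈ S, ∀ k : F, (∃ y ∈ S, B (s + k • u) (β' y) ≠ 0) →
        Φ (s + k • u) (β' (s + k • u)) := by
      intro s hs k hex
      by_cases hsr : s ∈ rad
      swap
      · exact step1 s hs hsr k hex
      obtain ⟨y0, hy0, hy0'⟩ := hex
      obtain ⟨y, hy, hyr, hyh⟩ := exists_avoid_two (S := S) (P := rad)
        (Q := LinearMap.ker ((B (s + k • u)).comp β')) hradS (fun hle => hy0' (hle hy0))
      rw [LinearMap.mem_ker, LinearMap.comp_apply] at hyh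
      refine reduce s hs y hy k hyr (step1 _ (S.add_mem hs hy)
        (fun h' => hyr ((rad.add_mem_iff_right hsr).1 h')) k ⟨y, hy, ?_⟩) hyh
      rw [show s + y + k • u = (s + k • u) + y by abel, map_add, LinearMap.add_apply, hβ'S y hy,
        show B y (β y) = 0 from hC.orth _ _ (hG y hy (hnr y hyr)), add_zero, ← hβ'S y hy]
      exact hyh
    intro x hx hxn
    obtain ⟨s, hs, k, rfl⟩ := hdec x hx
    by_cases hex : ∃ y ∈ S, B (s + k • u) (β' y) ≠ 0
    · exact step2 s hs k hex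
    push Not at hex
    obtain ⟨y', hy', hne'⟩ := hxn
    obtain ⟨p, hp, q, rfl⟩ := hdec y' hy'
    rw [β'.map_add, β'.map_smul, (B (s + k • u)).map_add, (B (s + k • u)).map_smul, hex p hp,
      zero_add, LinearMap.map_add₂, LinearMap.map_smul₂, huu, smul_zero, add_zero, hsu s hs,
      smul_eq_mul] at hne'
    have hgs : g s ≠ 0 := fun e => hne' (by rw [e, neg_zero, mul_zero])
    by_cases hsr : s ∈ rad
    swap
    · exact step0 s hs hsr hgs k
    have hk : k = 0 := by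
      have h1 := hex s1 hs1
      rw [hval s hs k s1 hs1, (hrad s).1 hsr s1 hs1, zero_add] at h1
      exact (mul_eq_zero.1 h1).resolve_right hs1g
    rw [hk, zero_smul, add_zero]
    have ha := step2 s hs 1 ⟨s1, hs1, by
      rw [hval s hs 1 s1 hs1, (hrad s).1 hsr s1 hs1, zero_add, one_mul]; exact hs1g⟩
    have hu' : u ∈ S' := Submodule.mem_sup_right (Submodule.mem_span_singleton_self u)
    have hb := hline β' (s + (1 : F) • u) u ha hΦu (by
      rw [map_add, LinearMap.add_apply, map_smul, LinearMap.smul_apply, huu, smul_zero, add_zero,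
        hsu s hs, neg_ne_zero]
      exact hgs) (hsk' u hu' _ (memS' s hs 1)) (-1)
    rwa [show s + (1 : F) • u + (-1 : F) • u = s by module] at hb
  -- the radical is zero
  have hrad0 : ∀ r ∈ S, r ∈ rad → r = 0 := by
    intro r hr hrr
    by_contra hr0
    have hp : ∀ t : F, Φ (v + t • r) (φ + t • β r) := fun t => by
      have hnr' : v + t • r ∉ rad := fun h => hvnr ((rad.add_mem_iff_left (rad.smul_mem t hrr)).1 h)
      have := hG _ (S.add_mem hvS (S.smul_mem t hr)) (hnr _ hnr')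
      rwa [map_add, map_smul, hβv] at this
    have e1 : B v (β r) = 0 := by rw [hsk v hvS r hr, (hrad r).1 hrr v hvS, neg_zero]
    have e2 : B r φ = 0 := by rw [← hβv]; exact (hrad r).1 hrr v hvS
    have e3 : B r (β r) = 0 := (hrad r).1 hrr r hr
    by_cases hβr : β r = 0
    · have hΦr : Φ r φ := by
        have := hC.add_left _ _ _ (by simpa [hβr] using hp 1) (hC.smul_left (-1) _ _ hv)
        rwa [show v + r + (-1 : F) • v = r by module] at this
      obtain ⟨w', ψ', hw', h1, h2⟩ := hC.partner r φ hΦr hr0 hφ0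
      obtain ⟨hw'S, -, d, rfl⟩ := inside w' ψ'
        hw' (fun e => h1 (by rw [e, map_zero, LinearMap.zero_apply]))
        (fun e => h2 (by rw [e, map_zero])) (Or.inr ⟨v, hvS, by rw [hβv]; exact h1⟩)
      exact h2 (by rw [map_smul, (hrad r).1 hrr w' hw'S, smul_zero])
    · have hΦr := hC.comb v r φ (β r) (by simpa using hp 1)
        (by simpa [sub_eq_add_neg] using hp (-1)) hv e1 e2 e3
      have h20 : (2 : F) • β r ≠ 0 := smul_ne_zero hC.two hβr
      obtain ⟨w', ψ', hw', h1, h2⟩ := hC.partner r _ hΦr hr0 h20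
      rw [map_smul, smul_eq_mul] at h1
      have h1' := (mul_ne_zero_iff.1 h1).2
      obtain ⟨hw'S, -, -⟩ := inside w' ψ' hw'
        (fun e => h1' (by rw [e, map_zero, LinearMap.zero_apply]))
        (fun e => h2 (by rw [e, map_zero])) (Or.inr ⟨r, hr, h1'⟩)
      exact h1' (by rw [hsk w' hw'S r hr, (hrad r).1 hrr w' hw'S, neg_zero])
  refine ⟨S, S.map β, ⟨fun x hx h => hrad0 x hx ((hrad x).2 fun y hy =>
    h _ (Submodule.mem_map_of_mem hy)), ?_, ?_, ?_, ?_, Or.inr ⟨β, fun x hx =>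
    Submodule.mem_map_of_mem hx, fun γ hγ => Submodule.mem_map.1 hγ, hsk, fun x hx => ?_,
    fun x hx hx0 χ hχ => ?_⟩⟩, hvS,
    hβv ▸ Submodule.mem_map_of_mem hvS⟩
  · intro γ hγ h
    obtain ⟨x, hx, rfl⟩ := Submodule.mem_map.1 hγ
    rw [hrad0 x hx ((hrad x).2 fun y hy => by rw [hsk x hx y hy, h y hy, neg_zero]), map_zero]
  · intro u χ hu hu0 hχ0
    by_cases hl : (∃ s ∈ S, B s χ ≠ 0) ∨ ∃ s ∈ S, B u (β s) ≠ 0
    · obtain ⟨huS, -, d, rfl⟩ := inside u χ hu hu0 hχ0 hl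
      exact Or.inl ⟨huS, Submodule.smul_mem _ d (Submodule.mem_map_of_mem huS)⟩
    · push Not at hl
      exact Or.inr ⟨fun γ hγ => by
        obtain ⟨x, hx, rfl⟩ := Submodule.mem_map.1 hγ
        exact hl.2 x hx, hl.1⟩
  · intro x hx hx0
    have hxr : x ∉ rad := fun h => hx0 (hrad0 x hx h)
    exact ⟨β x, Submodule.mem_map_of_mem hx, (hne x hx hxr).2, hG x hx (hnr x hxr)⟩
  · intro γ hγ hγ0
    obtain ⟨x, hx, rfl⟩ := Submodule.mem_map.1 hγ
    have hxr : x ∉ rad := fun h => hγ0 (by rw [hrad0 x hx h, map_zero])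
    exact ⟨x, hx, (hne x hx hxr).1, hG x hx (hnr x hxr)⟩
  · by_cases hxr : x ∈ rad
    · rw [hrad0 x hx hxr, map_zero]; exact hC.zero_left _
    · exact hG x hx (hnr x hxr)
  · by_cases hχ0 : χ = 0
    · exact ⟨0, by rw [hχ0, zero_smul]⟩
    obtain ⟨y, hy, hy'⟩ := hnr x fun h => hx0 (hrad0 x hx h)
    exact (inside x χ hχ hx0 hχ0 (Or.inr ⟨y, hy, hy'⟩)).2.2

end CfsgLib.McLaughlin
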