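import Mathlib

set_option autoImplicit false
set_option linter.unusedSectionVars false

/-!
The special linear group and the symplectic group of a space are generated by their transvections.
-/

namespace CfsgLib.McLaughlin

open Module

variable {F W : Type*} [Field F] [AddCommGroup W] [Module F W] [FiniteDimensional F W]

theorem det_one_mem (L : Subgroup (W ≃ₗ[F] W))
    (hL : ∀ (f : W →ₗ[F] F) (v : W), f v = 0 → ∃ t ∈ L, ∀ y, t y = y + f y • v)
    (g : W ≃ₗ[F] W) (hg : LinearMap.det (g : W →ₗ[F] W) = 1) : g ∈ L := by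
  suffices H : ∀ (c : ℕ) (U : Submodule F W) (g : W ≃ₗ[F] W), finrank F W ≤ finrank F U + c →
      (∀ y ∈ U, g y = y) → LinearMap.det (g : W →ₗ[F] W) = 1 → g ∈ L by
    exact H (finrank F W) ⊥ g (by omega) (fun y hy => by rw [(Submodule.mem_bot F).1 hy, map_zero]) hg
  have hdet : ∀ (f : W →ₗ[F] F) (v : W) (t : W ≃ₗ[F] W), f v = 0 → (∀ y, t y = y + f y • v) →
      LinearMap.det (t : W →ₗ[F] W) = 1 := fun f v t hfv ht => by
    rw [show (t : W →ₗ[F] W) = LinearMap.transvection f v from LinearMap.ext ht,
      LinearMap.transvection.det, hfv, add_zero]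
  intro c
  induction c with
  | zero =>
    intro U g hc hU _
    have hU' : U = ⊤ := Submodule.eq_top_of_finrank_eq (le_antisymm U.finrank_le (by omega))
    rw [show g = 1 from LinearEquiv.ext fun y => hU y (hU' ▸ Submodule.mem_top)]
    exact L.one_mem
  | succ c ih =>
    intro U g hc hU hdg
    by_cases hUt : U = ⊤
    · rw [show g = 1 from LinearEquiv.ext fun y => hU y (hUt ▸ Submodule.mem_top)]
      exact L.one_mem
    obtain ⟨x, -, hx⟩ := SetLike.exists_of_lt (lt_top_iff_ne_top.2 hUt)
    set U1 := U ⊔ Submodule.span F {x} with hU1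
    have hx1 : x ∈ U1 := Submodule.mem_sup_right (Submodule.mem_span_singleton_self x)
    have hUU1 : finrank F U < finrank F U1 := Submodule.finrank_lt_finrank_of_lt
      (left_lt_sup.2 (by rw [Submodule.span_singleton_le_iff_mem]; exact hx))
    have fin : ∀ h : W ≃ₗ[F] W, (∀ y ∈ U, h y = y) → h x = x →
        LinearMap.det (h : W →ₗ[F] W) = 1 → h ∈ L := fun h h1 h2 h3 => by
      refine ih U1 h (by omega) (fun y hy => ?_) h3
      obtain ⟨u, hu, z, hz, rfl⟩ := Submodule.mem_sup.1 hy
      obtain ⟨k, rfl⟩ := Submodule.mem_span_singleton.1 hz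
      rw [map_add, map_smul, h1 u hu, h2]
    have move : ∀ h : W ≃ₗ[F] W, (∀ y ∈ U, h y = y) → h x ∉ U1 →
        LinearMap.det (h : W →ₗ[F] W) = 1 → h ∈ L := by
      intro h h1 h2 h3
      have hn : h x ∉ U ⊔ Submodule.span F {h x - x} := by
        intro hm
        obtain ⟨u, hu, z, hz, e⟩ := Submodule.mem_sup.1 hm
        obtain ⟨k, rfl⟩ := Submodule.mem_span_singleton.1 hz
        by_cases hk : k = 1
        · refine hx ?_
          rw [hk, one_smul] at e
          have : x = u := by linear_combination (norm := module) -e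
          exact this ▸ hu
        · refine h2 ?_
          have : h x = (1 - k)⁻¹ • (u - k • x) := by
            rw [eq_inv_smul_iff₀ (sub_ne_zero.2 (Ne.symm hk))]
            linear_combination (norm := module) -e
          rw [this]
          exact Submodule.smul_mem _ _ (sub_mem (Submodule.mem_sup_left hu) (Submodule.smul_mem _ _ hx1))
      obtain ⟨f0, hf0, hle⟩ := Submodule.exists_le_ker_of_notMem hn
      set f := (f0 (h x))⁻¹ • f0 with hf
      have hfx : f (h x) = 1 := by simp [hf, inv_mul_cancel₀ hf0]
      have hfd : f (h x - x) = 0 := by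
        simp only [hf, LinearMap.smul_apply, show f0 (h x - x) = 0 from
          hle (Submodule.mem_sup_right (Submodule.mem_span_singleton_self _)), smul_zero]
      obtain ⟨t, ht, hty⟩ := hL f (x - h x) (by rw [← neg_sub, map_neg, hfd, neg_zero])
      have h4 := fin (t * h) (fun y hy => by
          rw [LinearEquiv.mul_apply, h1 y hy, hty, show f y = 0 by
            simp [hf, show f0 y = 0 from hle (Submodule.mem_sup_left hy)], zero_smul, add_zero])
        (by rw [LinearEquiv.mul_apply, hty, hfx, one_smul, add_sub_cancel])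
        (by
          rw [show ((t * h : W ≃ₗ[F] W) : W →ₗ[F] W) = (t : W →ₗ[F] W).comp (h : W →ₗ[F] W) from rfl,
            LinearMap.det_comp, h3, hdet f _ t (by rw [← neg_sub, map_neg, hfd, neg_zero]) hty, one_mul])
      have := L.mul_mem (L.inv_mem ht) h4
      rwa [← mul_assoc, inv_mul_cancel, one_mul] at this
    by_cases hgx : g x ∉ U1
    · exact move g hU hgx hdg
    push Not at hgx
    have hgU : g x ∉ U := fun h => hx (by
      have := hU _ h
      rw [EmbeddingLike.apply_eq_iff_eq] at this
      exact this ▸ h)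
    by_cases h1t : U1 = ⊤
    · obtain ⟨f0, hf0, hle⟩ := Submodule.exists_le_ker_of_notMem hx
      set f := (f0 x)⁻¹ • f0 with hf
      have hfU : ∀ y ∈ U, f y = 0 := fun y hy => by simp [hf, show f0 y = 0 from hle hy]
      have hfx : f x = 1 := by simp [hf, inv_mul_cancel₀ hf0]
      have hgy : ∀ y, g y = y + f y • (g x - x) := fun y => by
        obtain ⟨u, hu, z, hz, rfl⟩ := Submodule.mem_sup.1 (h1t ▸ Submodule.mem_top : y ∈ U1)
        obtain ⟨k, rfl⟩ := Submodule.mem_span_singleton.1 hz
        rw [map_add, map_smul, hU u hu, map_add, map_smul, hfU u hu, hfx, zero_add, smul_eq_mul,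
          mul_one]
        module
      have hfd : f (g x - x) = 0 := by
        have e : (g : W →ₗ[F] W) = LinearMap.transvection f (g x - x) := LinearMap.ext hgy
        rw [e, LinearMap.transvection.det] at hdg
        linear_combination hdg
      obtain ⟨t, ht, hty⟩ := hL f (g x - x) hfd
      rwa [show g = t from LinearEquiv.ext fun y => by rw [hgy, hty]]
    · obtain ⟨z, -, hz⟩ := SetLike.exists_of_lt (lt_top_iff_ne_top.2 h1t)
      have hn : g x ∉ U ⊔ Submodule.span F {z} := by
        intro hm
        obtain ⟨u, hu, z', hz', e⟩ := Submodule.mem_sup.1 hm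
        obtain ⟨k, rfl⟩ := Submodule.mem_span_singleton.1 hz'
        by_cases hk : k = 0
        · exact hgU (by rw [← e, hk, zero_smul, add_zero]; exact hu)
        · refine hz ?_
          rw [show z = k⁻¹ • (g x - u) by rw [← e, add_sub_cancel_left, inv_smul_smul₀ hk]]
          exact U1.smul_mem _ (sub_mem hgx (Submodule.mem_sup_left hu))
      obtain ⟨f0, hf0, hle⟩ := Submodule.exists_le_ker_of_notMem hn
      set f := (f0 (g x))⁻¹ • f0 with hf
      have hfz : f z = 0 := by
        simp [hf, show f0 z = 0 from hle (Submodule.mem_sup_right (Submodule.mem_span_singleton_self _))]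
      obtain ⟨t, ht, hty⟩ := hL f z hfz
      have h4 := move (t * g) (fun y hy => by
          rw [LinearEquiv.mul_apply, hU y hy, hty, show f y = 0 by
            simp [hf, show f0 y = 0 from hle (Submodule.mem_sup_left hy)], zero_smul, add_zero])
        (by
          rw [LinearEquiv.mul_apply, hty, show f (g x) = 1 by simp [hf, inv_mul_cancel₀ hf0], one_smul]
          exact fun h => hz ((U1.add_mem_iff_right hgx).1 h))
        (by
          rw [show ((t * g : W ≃ₗ[F] W) : W →ₗ[F] W) = (t : W →ₗ[F] W).comp (g : W →ₗ[F] W) from rfl,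
            LinearMap.det_comp, hdg, hdet f z t hfz hty, one_mul])
      have := L.mul_mem (L.inv_mem ht) h4
      rwa [← mul_assoc, inv_mul_cancel, one_mul] at this

theorem isometry_mem (B : LinearMap.BilinForm F W) (halt : B.IsAlt) (hnd : B.Nondegenerate)
    (L : Subgroup (W ≃ₗ[F] W))
    (hL : ∀ (c : F) (v : W), ∃ t ∈ L, ∀ y, t y = y + (c * B y v) • v)
    (g : W ≃ₗ[F] W) (hg : ∀ x y, B (g x) (g y) = B x y) : g ∈ L := by
  suffices H : ∀ (c : ℕ) (U : Submodule F W) (g : W ≃ₗ[F] W), finrank F W ≤ finrank F U + c →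
      (∀ x ∈ U, (∀ y ∈ U, B x y = 0) → x = 0) → (∀ y ∈ U, g y = y) →
      (∀ x y, B (g x) (g y) = B x y) → g ∈ L by
    exact H (finrank F W) ⊥ g (by omega) (fun x hx _ => (Submodule.mem_bot F).1 hx)
      (fun y hy => by rw [(Submodule.mem_bot F).1 hy, map_zero]) hg
  have sw : ∀ x y, B y x = -B x y := fun x y => (halt.neg_eq x y).symm
  have tiso : ∀ (c : F) (v : W) (t : W ≃ₗ[F] W), (∀ y, t y = y + (c * B y v) • v) →
      ∀ x y, B (t x) (t y) = B x y := fun c v t ht x y => by
    rw [ht, ht]
    simp only [map_add, map_smul, LinearMap.add_apply, LinearMap.smul_apply, halt v, smul_eq_mul]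
    rw [sw y v]
    ring
  intro c
  induction c with
  | zero =>
    intro U g hc _ hU _
    have hU' : U = ⊤ := Submodule.eq_top_of_finrank_eq (le_antisymm U.finrank_le (by omega))
    rw [show g = 1 from LinearEquiv.ext fun y => hU y (hU' ▸ Submodule.mem_top)]
    exact L.one_mem
  | succ c ih =>
    intro U g hc hn hU hgi
    by_cases hUt : U = ⊤
    · rw [show g = 1 from LinearEquiv.ext fun y => hU y (hUt ▸ Submodule.mem_top)]
      exact L.one_mem
    have hperp : ∀ x, x ∈ B.orthogonal U ↔ ∀ u ∈ U, B u x = 0 := fun x => Iff.rfl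
    have hrefl : B.IsRefl := halt.isRefl
    obtain ⟨e, he, he0⟩ : ∃ e ∈ B.orthogonal U, e ≠ 0 := by
      refine Submodule.exists_mem_ne_zero_of_ne_bot fun hb => hUt ?_
      have h1 := LinearMap.BilinForm.finrank_orthogonal hnd U
      rw [hb, finrank_bot] at h1
      exact Submodule.eq_top_of_finrank_eq (le_antisymm U.finrank_le (by omega))
    obtain ⟨f, hf, hef⟩ : ∃ f ∈ B.orthogonal U, B e f = 1 := by
      by_contra hc'
      push Not at hc'
      have hm : e ∈ B.orthogonal (B.orthogonal U) := fun y hy => by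
        by_contra h
        have h' : B e y ≠ 0 := fun h' => h (hrefl e y h')
        exact hc' ((B e y)⁻¹ • y) (Submodule.smul_mem _ _ hy)
          (by rw [map_smul, smul_eq_mul, inv_mul_cancel₀ h'])
      rw [LinearMap.BilinForm.orthogonal_orthogonal hnd hrefl] at hm
      exact he0 (hn e hm fun y hy => hrefl y e (he y hy))
    -- one step
    have step : ∀ a b : W, a ∈ B.orthogonal U → b ∈ B.orthogonal U → B a b ≠ 0 →
        ∀ p : W, B p (b - a) = 0 →
        ∃ t ∈ L, t a = b ∧ t p = p ∧ (∀ y ∈ U, t y = y) ∧ ∀ x y, B (t x) (t y) = B x y := by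
      intro a b ha hb hab p hp
      obtain ⟨t, ht, hty⟩ := hL (B a b)⁻¹ (b - a)
      refine ⟨t, ht, ?_, ?_, fun y hy => ?_, tiso _ _ t hty⟩
      · rw [hty, map_sub, halt a, sub_zero, inv_mul_cancel₀ hab, one_smul, add_sub_cancel]
      · rw [hty, hp, mul_zero, zero_smul, add_zero]
      · rw [hty, map_sub, ha y hy, hb y hy, sub_self, mul_zero, zero_smul, add_zero]
    have stay : ∀ h : W ≃ₗ[F] W, (∀ y ∈ U, h y = y) → (∀ x y, B (h x) (h y) = B x y) →
        ∀ a ∈ B.orthogonal U, h a ∈ B.orthogonal U := fun h h1 h2 a ha u hu => by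
      show B u (h a) = 0
      rw [← h1 u hu, h2]; exact ha u hu
    have fin : ∀ h : W ≃ₗ[F] W, (∀ y ∈ U, h y = y) → (∀ x y, B (h x) (h y) = B x y) →
        h e = e → h f = f → h ∈ L := by
      intro h h1 h2 h3 h4
      refine ih (U ⊔ Submodule.span F {e, f}) h ?_ ?_ ?_ h2
      · have hlt : U < U ⊔ Submodule.span F {e, f} := left_lt_sup.2 fun hle => he0
          (hn e (hle (Submodule.subset_span (by simp))) fun y hy => hrefl y e (he y hy))
        have := Submodule.finrank_lt_finrank_of_lt hlt
        omega
      · intro x hx hxo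
        obtain ⟨u, hu, z, hz, rfl⟩ := Submodule.mem_sup.1 hx
        obtain ⟨a, b, rfl⟩ := Submodule.mem_span_pair.1 hz
        have h5 := hxo e (Submodule.mem_sup_right (Submodule.subset_span (by simp)))
        have h6 := hxo f (Submodule.mem_sup_right (Submodule.subset_span (by simp)))
        simp only [map_add, map_smul, LinearMap.add_apply, LinearMap.smul_apply, halt e, halt f,
          he u hu, hf u hu, hef, sw e f, smul_eq_mul, zero_add, add_zero, mul_zero, mul_one] at h5 h6
        have hb0 : b = 0 := by linear_combination -h5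
        rw [hb0, h6, zero_smul, zero_smul, add_zero, add_zero]
        refine hn u hu fun y hy => ?_
        have := hxo y (Submodule.mem_sup_left hy)
        rwa [hb0, h6, zero_smul, zero_smul, add_zero, add_zero] at this
      · intro y hy
        obtain ⟨u, hu, z, hz, rfl⟩ := Submodule.mem_sup.1 hy
        obtain ⟨a, b, rfl⟩ := Submodule.mem_span_pair.1 hz
        rw [map_add, map_add, map_smul, map_smul, h1 u hu, h3, h4]
    -- the second vector
    have mid : ∀ h : W ≃ₗ[F] W, (∀ y ∈ U, h y = y) → (∀ x y, B (h x) (h y) = B x y) →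
        h e = e → h ∈ L := by
      intro h h1 h2 h3
      have hhf := stay h h1 h2 f hf
      have he1 : B e (h f) = 1 := by
        have := h2 e f
        rwa [h3, hef] at this
      by_cases hc' : B (h f) f = 0
      · have hz : f + e ∈ B.orthogonal U := add_mem hf he
        obtain ⟨t, ht, t1, t2, t3, t4⟩ := step (h f) (f + e) hhf hz
          (by rw [map_add, hc', zero_add, sw e (h f), he1]; simp) e
          (by rw [map_sub, map_add, halt e, hef, he1, add_zero, sub_self])
        obtain ⟨s, hs, s1, s2, s3, s4⟩ := step (f + e) f hz hf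
          (by rw [map_add, LinearMap.add_apply, halt f, hef, zero_add]; exact one_ne_zero) e
          (by rw [sub_add_cancel_left, map_neg, halt e, neg_zero])
        have h7 := fin (s * (t * h)) (fun y hy => by simp [LinearEquiv.mul_apply, h1 y hy, t3 y hy, s3 y hy])
          (fun x y => by simp [LinearEquiv.mul_apply, s4, t4, h2])
          (by simp [LinearEquiv.mul_apply, h3, t2, s2]) (by simp [LinearEquiv.mul_apply, t1, s1])
        have := L.mul_mem (L.inv_mem ht) (L.mul_mem (L.inv_mem hs) h7)
        rwa [← mul_assoc s⁻¹, inv_mul_cancel, one_mul, ← mul_assoc, inv_mul_cancel, one_mul] at this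
      · obtain ⟨t, ht, t1, t2, t3, t4⟩ := step (h f) f hhf hf hc' e
          (by rw [map_sub, hef, he1, sub_self])
        have h7 := fin (t * h) (fun y hy => by simp [LinearEquiv.mul_apply, h1 y hy, t3 y hy])
          (fun x y => by simp [LinearEquiv.mul_apply, t4, h2])
          (by simp [LinearEquiv.mul_apply, h3, t2]) (by simp [LinearEquiv.mul_apply, t1])
        have := L.mul_mem (L.inv_mem ht) h7
        rwa [← mul_assoc, inv_mul_cancel, one_mul] at this
    -- the first vector
    have hge := stay g hU hgi e he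
    obtain ⟨z, hz, hz1, hz2⟩ : ∃ z ∈ B.orthogonal U, B (g e) z ≠ 0 ∧ B z e ≠ 0 := by
      have p1 : B e f ≠ 0 := by rw [hef]; exact one_ne_zero
      have p2 : B (g e) (g f) ≠ 0 := by rw [hgi, hef]; exact one_ne_zero
      have hgf := stay g hU hgi f hf
      by_cases h : B (g e) f = 0
      · by_cases h' : B (g f) e = 0
        · exact ⟨f + g f, add_mem hf hgf, by rw [map_add, h, zero_add]; exact p2,
            by rw [map_add, LinearMap.add_apply, h', add_zero, sw e f, hef]; simp⟩
        · exact ⟨g f, hgf, p2, h'⟩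
      · exact ⟨f, hf, h, by rw [sw e f, hef]; simp⟩
    obtain ⟨t, ht, t1, -, t3, t4⟩ := step (g e) z hge hz hz1 0 (by simp)
    obtain ⟨s, hs, s1, -, s3, s4⟩ := step z e hz he hz2 0 (by simp)
    have h7 := mid (s * (t * g)) (fun y hy => by simp [LinearEquiv.mul_apply, hU y hy, t3 y hy, s3 y hy])
      (fun x y => by simp [LinearEquiv.mul_apply, s4, t4, hgi])
      (by simp [LinearEquiv.mul_apply, t1, s1])
    have := L.mul_mem (L.inv_mem ht) (L.mul_mem (L.inv_mem hs) h7)
    rwa [← mul_assoc s⁻¹, inv_mul_cancel, one_mul, ← mul_assoc, inv_mul_cancel, one_mul] at this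

end CfsgLib.McLaughlin
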