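import Cfsg.Prelude.Def_Solvable
import Cfsg.Agent.Lib.Baer.Basic
import Cfsg.Agent.Lib.RootSub.McLaughlin.Abstract
import Cfsg.Agent.Lib.RootSub.McLaughlin.Generation

set_option autoImplicit false
set_option linter.unusedSectionVars false

/-!
A group over a prime field of odd order generated by transvections, with no normal `p`-subgroup, is
a direct product of special linear and symplectic groups.
-/

namespace CfsgLib.McLaughlin

open Module

variable {p : ℕ} [Fact p.Prime] {V : Type*} [AddCommGroup V] [Module (ZMod p) V]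

/-- The evaluation pairing. -/
abbrev ev (p : ℕ) (V : Type*) [Fact p.Prime] [AddCommGroup V] [Module (ZMod p) V] :
    V →ₗ[ZMod p] (V →ₗ[ZMod p] ZMod p) →ₗ[ZMod p] ZMod p :=
  Module.Dual.eval (ZMod p) V

/-- The transvections of a group. -/
def tvs (H : Subgroup (V ≃ₗ[ZMod p] V)) (x : V) (φ : V →ₗ[ZMod p] ZMod p) : Prop :=
  φ x = 0 ∧ ∃ g ∈ H, ∀ y, g y = y + φ y • x

variable {H : Subgroup (V ≃ₗ[ZMod p] V)}

theorem ev_apply (x : V) (φ : V →ₗ[ZMod p] ZMod p) : ev p V x φ = φ x := rfl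

theorem two_ne (hp : Odd p) : (2 : ZMod p) ≠ 0 := by
  intro h
  have h2 : ((2 : ℕ) : ZMod p) = 0 := by exact_mod_cast h
  have h3 := Nat.le_of_dvd two_pos ((ZMod.natCast_eq_zero_iff 2 p).1 h2)
  have := (Fact.out : p.Prime).two_le
  rw [show p = 2 by omega] at hp
  exact absurd hp (by decide)

theorem tvs_smul_left {c : ZMod p} {x : V} {φ : V →ₗ[ZMod p] ZMod p} (h : tvs H x φ) :
    tvs H (c • x) φ := by
  obtain ⟨h0, g, hg, hgy⟩ := h
  refine ⟨by rw [map_smul, h0, smul_zero], g ^ c.val, H.pow_mem hg _, fun y => ?_⟩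
  have hk : ∀ k : ℕ, (g ^ k) y = y + φ y • ((k : ZMod p) • x) := by
    intro k
    induction k with
    | zero => simp
    | succ k ih =>
      rw [pow_succ', LinearEquiv.mul_apply, ih, hgy, map_add, map_smul, map_smul, h0]
      push_cast
      simp only [smul_zero, add_zero]
      module
  rw [hk, ZMod.natCast_zmod_val]

theorem finite_auto [Finite V] : Finite (V ≃ₗ[ZMod p] V) :=
  Finite.of_injective (fun e => (e : V → V)) DFunLike.coe_injective

/-- The elements fixing `w`, moving `v` along `w` and everything into their span. -/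
def flag (H : Subgroup (V ≃ₗ[ZMod p] V)) (w v : V) : Subgroup ↥H where
  carrier := {h | (h : V ≃ₗ[ZMod p] V) w = w ∧
    (h : V ≃ₗ[ZMod p] V) v - v ∈ Submodule.span (ZMod p) {w} ∧
    ∀ y, (h : V ≃ₗ[ZMod p] V) y - y ∈ Submodule.span (ZMod p) {w, v}}
  mul_mem' {a b} ha hb := by
    obtain ⟨a1, a2, a3⟩ := ha
    obtain ⟨b1, b2, b3⟩ := hb
    refine ⟨?_, ?_, fun y => ?_⟩ <;> rw [Subgroup.coe_mul, LinearEquiv.mul_apply]
    · rw [b1, a1]
    · obtain ⟨c, hc⟩ := Submodule.mem_span_singleton.1 b2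
      rw [← sub_add_cancel ((b : V ≃ₗ[ZMod p] V) v) v, ← hc, map_add, map_smul, a1, add_sub_assoc]
      exact add_mem (Submodule.smul_mem _ _ (Submodule.mem_span_singleton_self w)) a2
    · rw [← sub_add_sub_cancel _ ((b : V ≃ₗ[ZMod p] V) y) y]
      exact add_mem (a3 _) (b3 y)
  one_mem' := by
    refine ⟨rfl, ?_, fun y => ?_⟩ <;> simp
  inv_mem' {a} ha := by
    obtain ⟨a1, a2, a3⟩ := ha
    have e : ∀ y, (a : V ≃ₗ[ZMod p] V)⁻¹ ((a : V ≃ₗ[ZMod p] V) y) = y :=
      (a : V ≃ₗ[ZMod p] V).symm_apply_apply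
    have i1 : (a : V ≃ₗ[ZMod p] V)⁻¹ w = w := by
      conv_lhs => rw [← a1]
      rw [e]
    obtain ⟨c, hc⟩ := Submodule.mem_span_singleton.1 a2
    have i2 : (a : V ≃ₗ[ZMod p] V)⁻¹ v = v - c • w := by
      have := e v
      rw [← sub_add_cancel ((a : V ≃ₗ[ZMod p] V) v) v, ← hc, map_add, map_smul, i1] at this
      exact eq_sub_of_add_eq' this
    refine ⟨by rw [Subgroup.coe_inv]; exact i1, ?_, fun y => ?_⟩ <;> rw [Subgroup.coe_inv]
    · rw [i2, sub_sub_cancel_left]
      exact neg_mem (Submodule.smul_mem _ _ (Submodule.mem_span_singleton_self w))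
    · set z := (a : V ≃ₗ[ZMod p] V)⁻¹ y
      have hz : (a : V ≃ₗ[ZMod p] V) z = y := (a : V ≃ₗ[ZMod p] V).apply_symm_apply y
      rw [← hz, ← neg_sub]
      exact neg_mem (a3 z)

theorem pow_p_eq_one (hp : Odd p) {w v : V} {h : ↥H} (hh : h ∈ flag H w v) : h ^ p = 1 := by
  obtain ⟨h1, h2, h3⟩ := hh
  have hp3 : 3 ≤ p := by
    have h4 := (Fact.out : p.Prime).two_le
    rcases h4.lt_or_eq with h5 | h5
    · exact h5
    · rw [← h5] at hp; exact absurd hp (by decide)
  set N : Module.End (ZMod p) V := ((h : V ≃ₗ[ZMod p] V) : V →ₗ[ZMod p] V) - 1 with hN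
  have hN1 : N w = 0 := by simp [hN, h1]
  have hN3 : ∀ y, N (N (N y)) = 0 := by
    intro y
    obtain ⟨a, b, hab⟩ := Submodule.mem_span_pair.1 (h3 y)
    obtain ⟨c, hc⟩ := Submodule.mem_span_singleton.1 h2
    have e1 : N y = a • w + b • v := by rw [hab]; simp [hN]
    have e2 : N v = c • w := by rw [hc]; simp [hN]
    rw [e1, map_add, map_smul, map_smul, hN1, e2, smul_zero, zero_add, map_smul, map_smul, hN1,
      smul_zero, smul_zero]
  have hNp : N ^ p = 0 := by
    exact pow_eq_zero_of_le hp3 (LinearMap.ext fun y => hN3 y)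
  by_cases hV : Subsingleton V
  · exact Subtype.ext (LinearEquiv.ext fun y => Subsingleton.elim _ _)
  haveI : Nontrivial V := not_subsingleton_iff_nontrivial.1 hV
  haveI : CharP (Module.End (ZMod p) V) p :=
    charP_of_injective_algebraMap (algebraMap (ZMod p) (Module.End (ZMod p) V)).injective p
  rw [hN, sub_pow_char_of_commute p (Commute.one_right _), one_pow, sub_eq_zero] at hNp
  refine Subtype.ext (LinearEquiv.toLinearMap_injective ?_)
  rw [Subgroup.coe_pow, Subgroup.coe_one]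
  have e : ∀ k : ℕ, (((h : V ≃ₗ[ZMod p] V) ^ k : V ≃ₗ[ZMod p] V) : V →ₗ[ZMod p] V) =
      ((h : V ≃ₗ[ZMod p] V) : V →ₗ[ZMod p] V) ^ k := by
    intro k
    induction k with
    | zero => rfl
    | succ k ih => rw [pow_succ, pow_succ, ← ih]; rfl
  rw [e, hNp]
  rfl

theorem isPGroup_pair (hp : Odd p) {X Y : Subgroup ↥H} {w v : V} (hX : X ≤ flag H w v)
    (hY : Y ≤ flag H w v) : IsPGroup p ↥(X ⊔ Y) := by
  intro g
  exact ⟨1, Subtype.ext (by
    rw [pow_one, Subgroup.coe_pow]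
    exact pow_p_eq_one hp (sup_le hX hY g.2))⟩

/-- The transvections form a configuration. -/
theorem cfg [Finite V] (hp : Odd p) (hOp : Cfsg.pCore p ↥H = ⊥) : Cfg (ev p V) (tvs H) where
  two := two_ne hp
  orth x y h := h.1
  zero_left y := ⟨map_zero _, 1, H.one_mem, fun z => by simp⟩
  zero_right x := ⟨rfl, 1, H.one_mem, fun z => by simp⟩
  smul_left c x y h := tvs_smul_left h
  smul_right c x y h := by
    obtain ⟨h0, g, hg, hgy⟩ := tvs_smul_left (c := c) h
    exact ⟨by rw [LinearMap.smul_apply, h.1, smul_zero], g, hg, fun z => by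
      rw [hgy, LinearMap.smul_apply, smul_eq_mul, mul_comm, mul_smul, smul_comm]⟩
  add_left x x' y h h' := by
    obtain ⟨h0, g, hg, hgy⟩ := h
    obtain ⟨h0', g', hg', hgy'⟩ := h'
    refine ⟨by rw [map_add, h0, h0', add_zero], g * g', H.mul_mem hg hg', fun z => ?_⟩
    rw [LinearEquiv.mul_apply, hgy', hgy, map_add, map_smul, h0', smul_zero, add_zero, smul_add]
    abel
  add_right x y y' h h' := by
    obtain ⟨h0, g, hg, hgy⟩ := h
    obtain ⟨h0', g', hg', hgy'⟩ := h'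
    refine ⟨by rw [LinearMap.add_apply, h0, h0', add_zero], g * g', H.mul_mem hg hg', fun z => ?_⟩
    rw [LinearEquiv.mul_apply, hgy', hgy, map_add, map_smul, h0, smul_zero, add_zero,
      LinearMap.add_apply, add_smul]
    abel
  conj x y v φ h h' := by
    obtain ⟨h0, g, hg, hgy⟩ := h
    obtain ⟨h0', k, hk, hky⟩ := h'
    simp only [ev_apply]
    refine ⟨?_, k * g * k⁻¹, H.mul_mem (H.mul_mem hk hg) (H.inv_mem hk), fun z => ?_⟩
    · simp only [LinearMap.sub_apply, LinearMap.smul_apply, map_add, map_smul, smul_eq_mul, h0, h0']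
      ring
    · have hk' : k⁻¹ z = z - φ z • v := k.injective (by
        rw [show k (k⁻¹ z) = z from k.apply_symm_apply z, hky, map_sub, map_smul, h0']
        simp)
      rw [LinearEquiv.mul_apply, LinearEquiv.mul_apply, hk', hgy, hky]
      simp only [map_add, map_sub, map_smul, h0', smul_eq_mul, LinearMap.sub_apply,
        LinearMap.smul_apply]
      module
  comb v r φ ψ h1 h2 h3 e1 e2 e3 := by
    obtain ⟨-, g1, hg1, hy1⟩ := h1
    obtain ⟨-, g2, hg2, hy2⟩ := h2
    obtain ⟨-, g3, hg3, hy3⟩ := tvs_smul_left (c := (-2 : ZMod p)) h3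
    have f1 : φ v = 0 := h3.1
    simp only [ev_apply] at e1 e2 e3
    refine ⟨by rw [LinearMap.smul_apply, e3, smul_zero], g1 * (g2 * g3),
      H.mul_mem hg1 (H.mul_mem hg2 hg3), fun z => ?_⟩
    rw [LinearEquiv.mul_apply, LinearEquiv.mul_apply, hy3, hy2, hy1]
    simp only [map_add, map_sub, map_smul, LinearMap.add_apply, LinearMap.sub_apply,
      LinearMap.smul_apply, f1, e1, e2, e3, smul_eq_mul]
    module
  partner x y h hx hy := by
    haveI := finite_auto (p := p) (V := V)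
    by_contra hc
    push Not at hc
    obtain ⟨h0, g, hg, hgy⟩ := h
    set t : ↥H := ⟨g, hg⟩
    have hX : IsPGroup p ↥(Subgroup.zpowers t) := by
      have ht : Subgroup.zpowers t ≤ flag H x x := by
        rw [Subgroup.zpowers_le]
        refine ⟨?_, ?_, fun z => ?_⟩
        · show g x = x
          rw [hgy, h0, zero_smul, add_zero]
        · show g x - x ∈ _
          rw [hgy, h0, zero_smul, add_zero, sub_self]; exact zero_mem _
        · show g z - z ∈ _
          rw [hgy, add_sub_cancel_left]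
          exact Submodule.smul_mem _ _ (Submodule.subset_span (by simp))
      intro z
      exact ⟨1, Subtype.ext (by rw [pow_one, Subgroup.coe_pow]; exact pow_p_eq_one hp (ht z.2))⟩
    obtain ⟨N, hN, hNp, hle⟩ := Baer.baer_suzuki (p := p) (Subgroup.zpowers t) hX fun k => by
      set k' := (k : V ≃ₗ[ZMod p] V) with hk'
      set ψ := y ∘ₗ (k'.symm : V →ₗ[ZMod p] V) with hψ
      have hconj : ∀ z, (k' * g * k'⁻¹) z = z + ψ z • k' x := fun z => by
        rw [LinearEquiv.mul_apply, LinearEquiv.mul_apply, hgy, map_add, map_smul,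
          show k' (k'⁻¹ z) = z from k'.apply_symm_apply z]
        rfl
      have hψx : ψ (k' x) = 0 := by
        show y (k'.symm (k' x)) = 0
        rw [k'.symm_apply_apply, h0]
      have htv : tvs H (k' x) ψ :=
        ⟨hψx, _, H.mul_mem (H.mul_mem k.2 hg) (H.inv_mem k.2), hconj⟩
      rw [MonoidHom.map_zpowers]
      have hval : (((MulAut.conj k).toMonoidHom t : ↥H) : V ≃ₗ[ZMod p] V) = k' * g * k'⁻¹ := rfl
      by_cases hyk : y (k' x) = 0
      · refine isPGroup_pair hp (w := k' x) (v := x) ?_ ?_ <;> rw [Subgroup.zpowers_le]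
        · refine ⟨?_, ?_, fun z => ?_⟩
          · show g (k' x) = k' x
            rw [hgy, hyk, zero_smul, add_zero]
          · show g x - x ∈ _
            rw [hgy, h0, zero_smul, add_zero, sub_self]; exact zero_mem _
          · show g z - z ∈ _
            rw [hgy, add_sub_cancel_left]
            exact Submodule.smul_mem _ _ (Submodule.subset_span (by simp))
        · refine ⟨?_, ?_, fun z => ?_⟩
          · rw [hval, hconj, hψx, zero_smul, add_zero]
          · rw [hval, hconj, add_sub_cancel_left]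
            exact Submodule.smul_mem _ _ (Submodule.mem_span_singleton_self _)
          · rw [hval, hconj, add_sub_cancel_left]
            exact Submodule.smul_mem _ _ (Submodule.subset_span (by simp))
      · have hψ0 : ψ x = 0 := hc (k' x) ψ htv hyk
        refine isPGroup_pair hp (w := x) (v := k' x) ?_ ?_ <;> rw [Subgroup.zpowers_le]
        · refine ⟨?_, ?_, fun z => ?_⟩
          · show g x = x
            rw [hgy, h0, zero_smul, add_zero]
          · show g (k' x) - k' x ∈ _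
            rw [hgy, add_sub_cancel_left]
            exact Submodule.smul_mem _ _ (Submodule.mem_span_singleton_self _)
          · show g z - z ∈ _
            rw [hgy, add_sub_cancel_left]
            exact Submodule.smul_mem _ _ (Submodule.subset_span (by simp))
        · refine ⟨?_, ?_, fun z => ?_⟩
          · rw [hval, hconj, hψ0, zero_smul, add_zero]
          · rw [hval, hconj, hψx, zero_smul, add_zero, sub_self]; exact zero_mem _
          · rw [hval, hconj, add_sub_cancel_left]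
            exact Submodule.smul_mem _ _ (Submodule.subset_span (by simp))
    have h1 : t ∈ Cfsg.pCore p ↥H :=
      (le_sSup (show N ∈ {N : Subgroup ↥H | N.Normal ∧ IsPGroup p N} from ⟨hN, hNp⟩) :
        N ≤ Cfsg.pCore p ↥H) (hle (Subgroup.mem_zpowers t))
    rw [hOp, Subgroup.mem_bot] at h1
    have h2 : g = 1 := congrArg Subtype.val h1
    refine hy (LinearMap.ext fun z => ?_)
    have h3 := hgy z
    rw [h2, show (1 : V ≃ₗ[ZMod p] V) z = z from rfl, left_eq_add, smul_eq_zero] at h3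
    exact h3.resolve_right hx

/-- A generator is a transvection. -/
theorem tvs_of_fixes [Finite V] {t : V ≃ₗ[ZMod p] V} (ht : t ∈ H) (ho : orderOf t = p)
    (hk : finrank (ZMod p) ↥(LinearMap.ker ((t : V →ₗ[ZMod p] V) - LinearMap.id)) + 1 =
      finrank (ZMod p) V) :
    ∃ x φ, x ≠ 0 ∧ φ ≠ 0 ∧ tvs H x φ ∧ ∀ y, t y = y + φ y • x := by
  set N := (t : V →ₗ[ZMod p] V) - LinearMap.id with hN
  have h1 : finrank (ZMod p) (LinearMap.range N) = 1 := by
    have := N.finrank_range_add_finrank_ker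
    omega
  obtain ⟨⟨x, hxN⟩, hx, hspan⟩ := finrank_eq_one_iff'.1 h1
  have hx0 : x ≠ 0 := fun h => hx (Subtype.ext h)
  obtain ⟨f, hf⟩ : ∃ f : V →ₗ[ZMod p] ZMod p, f x = 1 := by
    obtain ⟨g, hg, -⟩ := Submodule.exists_le_ker_of_notMem
      (show x ∉ (⊥ : Submodule (ZMod p) V) from fun h => hx0 ((Submodule.mem_bot _).1 h))
    exact ⟨(g x)⁻¹ • g, by simp [inv_mul_cancel₀ hg]⟩
  set φ := f ∘ₗ N with hφ
  have hty : ∀ y, t y = y + φ y • x := fun y => by
    obtain ⟨c, hc⟩ := hspan ⟨N y, LinearMap.mem_range_self N y⟩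
    have hc' : c • x = N y := congrArg Subtype.val hc
    rw [hφ, LinearMap.comp_apply, ← hc', map_smul, hf, smul_eq_mul, mul_one, hc']
    simp [hN]
  have hφx : φ x = 0 := by
    have hk : ∀ k : ℕ, (t ^ k) x = (1 + φ x) ^ k • x := by
      intro k
      induction k with
      | zero => simp
      | succ k ih =>
        rw [pow_succ', LinearEquiv.mul_apply, ih, map_smul, hty, pow_succ, mul_smul, add_smul, one_smul]
    have h2 := hk p
    rw [show t ^ p = 1 from orderOf_dvd_iff_pow_eq_one.1 ho.dvd, show (1 : V ≃ₗ[ZMod p] V) x = x from rfl,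
      ZMod.pow_card, add_smul, one_smul, left_eq_add, smul_eq_zero] at h2
    exact h2.resolve_right hx0
  refine ⟨x, φ, hx0, fun h => ?_, ⟨hφx, t, ht, hty⟩, hty⟩
  have : t = 1 := LinearEquiv.ext fun y => by
    rw [hty, h, LinearMap.zero_apply, zero_smul, add_zero]; rfl
  rw [this, orderOf_one] at ho
  exact (Fact.out : p.Prime).ne_one ho.symm

section Block

variable {F X : Type*} [Field F] [AddCommGroup X] [Module F X] [FiniteDimensional F X]
variable {Φ : X → (X →ₗ[F] F) → Prop} {S : Submodule F X} {A : Submodule F (X →ₗ[F] F)}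

theorem blk_bij (hb : Blk (Module.Dual.eval F X) Φ S A) :
    (∀ y : X, ∃ s ∈ S, ∀ φ ∈ A, φ s = φ y) ∧
      ∀ f : S →ₗ[F] F, ∃ φ ∈ A, ∀ s : S, φ (s : X) = f s := by
  set M : S →ₗ[F] A →ₗ[F] F := (Module.Dual.eval F X).domRestrict₁₂ S A with hM
  have hMa : ∀ (s : S) (φ : A), M s φ = (φ : X →ₗ[F] F) (s : X) := fun s φ => rfl
  have hM1 : Function.Injective M := LinearMap.ker_eq_bot.1 <| LinearMap.ker_eq_bot'.2 fun s hs =>
    Subtype.ext (hb.nondeg _ s.2 fun φ hφ => DFunLike.congr_fun hs ⟨φ, hφ⟩)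
  have hM2 : Function.Injective M.flip := LinearMap.ker_eq_bot.1 <| LinearMap.ker_eq_bot'.2 fun φ hφ =>
    Subtype.ext (hb.nondeg' _ φ.2 fun s hs => DFunLike.congr_fun hφ ⟨s, hs⟩)
  haveI : Module.Free F ↥A := Module.Free.of_divisionRing F ↥A
  have eA : finrank F (A →ₗ[F] F) = finrank F A := Module.finrank_linearMap_self F F ↥A
  have eS : finrank F (S →ₗ[F] F) = finrank F S := Module.finrank_linearMap_self F F ↥S
  have h1 : finrank F S ≤ finrank F A :=
    (LinearMap.finrank_le_finrank_of_injective hM1).trans_eq (Module.finrank_linearMap_self F F ↥A)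
  have h2 : finrank F A ≤ finrank F S :=
    (LinearMap.finrank_le_finrank_of_injective hM2).trans_eq (Module.finrank_linearMap_self F F ↥S)
  have s1 : Function.Surjective M := (LinearMap.injective_iff_surjective_of_finrank_eq_finrank
    (f := M) (show finrank F S = finrank F (A →ₗ[F] F) by omega)).1 hM1
  have e2 : finrank F A = finrank F (S →ₗ[F] F) := by omega
  have s2 : Function.Surjective M.flip :=
    (@LinearMap.injective_iff_surjective_of_finrank_eq_finrank F ↥A _ (Submodule.addCommGroup A)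
      (Submodule.module A) (↥S →ₗ[F] F) _ _ _ _ e2 M.flip).1 hM2
  refine ⟨fun y => ?_, fun f => ?_⟩
  · obtain ⟨s, hs⟩ := s1 ((Module.Dual.eval F X y).domRestrict A)
    exact ⟨s, s.2, fun φ hφ => DFunLike.congr_fun hs ⟨φ, hφ⟩⟩
  · obtain ⟨φ, hφ⟩ := s2 f
    exact ⟨φ, φ.2, fun s => DFunLike.congr_fun hφ s⟩

omit [FiniteDimensional F X] in
theorem blk_le {B' : X →ₗ[F] (X →ₗ[F] F) →ₗ[F] F} (hC : Cfg B' Φ)
    {S' : Submodule F X} {A' : Submodule F (X →ₗ[F] F)} (hb : Blk B' Φ S A) (hb' : Blk B' Φ S' A')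
    {v : X} {φ : X →ₗ[F] F} (hv : v ∈ S) (hφ : φ ∈ A) (hφ0 : φ ≠ 0) (hv' : v ∈ S') (hv0 : v ≠ 0)
    (hvφ : Φ v φ) : S ≤ S' ∧ A ≤ A' := by
  have hφ' : φ ∈ A' := axis_mem hC hb' hv' hv0 hvφ
  have hS : S ≤ S' := by
    intro x hx
    by_cases hx0 : x = 0
    · rw [hx0]; exact zero_mem _
    obtain ⟨γ, hγ, hγ0, hxγ⟩ := hb.centre x hx hx0
    obtain ⟨z, hz, hz1, hz2⟩ := exists_avoid_two (S := S) (P := LinearMap.ker (B'.flip φ))
      (Q := LinearMap.ker (B'.flip γ)) (fun h => hφ0 (hb.nondeg' φ hφ fun x hx => h hx))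
      (fun h => hγ0 (hb.nondeg' γ hγ fun x hx => h hx))
    simp only [LinearMap.mem_ker, LinearMap.flip_apply] at hz1 hz2
    have hz0 : z ≠ 0 := fun h => hz1 (by rw [h, map_zero, LinearMap.zero_apply])
    obtain ⟨δ, -, hδ0, hzδ⟩ := hb.centre z hz hz0
    obtain ⟨hz', hδ'⟩ := inside_of_linked hC hb' hv' hφ' hzδ hz0 hδ0 (Or.inr hz1)
    exact (inside_of_linked hC hb' hz' hδ' hxγ hx0 hγ0 (Or.inl hz2)).1
  refine ⟨hS, fun γ hγ => ?_⟩
  by_cases hγ0 : γ = 0
  · rw [hγ0]; exact zero_mem _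
  obtain ⟨x, hx, hx0, hxγ⟩ := hb.axis γ hγ hγ0
  exact axis_mem hC hb' (hS hx) hx0 hxγ

end Block

/-- The transvections of a block. -/
def gens (H : Subgroup (V ≃ₗ[ZMod p] V)) (S : Submodule (ZMod p) V)
    (A : Submodule (ZMod p) (V →ₗ[ZMod p] ZMod p)) : Set (V ≃ₗ[ZMod p] V) :=
  {g | g ∈ H ∧ ∃ x ∈ S, ∃ φ ∈ A, φ x = 0 ∧ ∀ y, g y = y + φ y • x}

/-- The group of a block acts on its centres as the special linear or a symplectic group. -/
theorem block_action [Finite V] (hp : Odd p) (hOp : Cfsg.pCore p ↥H = ⊥)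
    {S : Submodule (ZMod p) V} {A : Submodule (ZMod p) (V →ₗ[ZMod p] ZMod p)}
    (hb : Blk (ev p V) (tvs H) S A)
    (hmap : ∀ g ∈ Subgroup.closure (gens H S A), S.map (g : V →ₗ[ZMod p] V) = S) :
    ∃ ρ : ↥(Subgroup.closure (gens H S A)) →* (↥S ≃ₗ[ZMod p] ↥S),
      (∀ h v, ((ρ h v : ↥S) : V) = (h : V ≃ₗ[ZMod p] V) (v : V)) ∧
        ((ρ.range : Set (↥S ≃ₗ[ZMod p] ↥S)) =
            {f : ↥S ≃ₗ[ZMod p] ↥S | LinearMap.det (f : ↥S →ₗ[ZMod p] ↥S) = 1} ∨
          ∃ B : LinearMap.BilinForm (ZMod p) ↥S, B.IsAlt ∧ B.Nondegenerate ∧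
            (ρ.range : Set (↥S ≃ₗ[ZMod p] ↥S)) = {f : ↥S ≃ₗ[ZMod p] ↥S | ∀ x y, B (f x) (f y) = B x y}) := by
  haveI : FiniteDimensional (ZMod p) V := Module.Finite.of_finite
  have hC := cfg (V := V) hp hOp
  set K := Subgroup.closure (gens H S A) with hK
  let ρ : ↥K →* (↥S ≃ₗ[ZMod p] ↥S) :=
    { toFun := fun h => (h : V ≃ₗ[ZMod p] V).ofSubmodules S S (hmap _ h.2)
      map_one' := LinearEquiv.ext fun v => Subtype.ext rfl
      map_mul' := fun a b => LinearEquiv.ext fun v => Subtype.ext rfl }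
  have hρ : ∀ h v, ((ρ h v : ↥S) : V) = (h : V ≃ₗ[ZMod p] V) (v : V) := fun h v => rfl
  refine ⟨ρ, hρ, ?_⟩
  have mk : ∀ x ∈ S, ∀ φ ∈ A, tvs H x φ → ∃ t ∈ ρ.range, ∀ v : S, ((t v : ↥S) : V) = v + φ v • x := by
    rintro x hx φ hφ ⟨h0, g, hg, hgy⟩
    have hgK : g ∈ K := Subgroup.subset_closure ⟨hg, x, hx, φ, hφ, h0, hgy⟩
    exact ⟨ρ ⟨g, hgK⟩, ⟨_, rfl⟩, fun v => by rw [hρ]; exact hgy v⟩
  rcases hb.kind with hF | ⟨β, hβA, hβsurj, hsk, hβΦ, huniq⟩
  · left
    refine Set.Subset.antisymm ?_ ?_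
    · rintro f ⟨⟨g, hg⟩, rfl⟩
      show LinearMap.det ((ρ ⟨g, hg⟩ : ↥S ≃ₗ[ZMod p] ↥S) : ↥S →ₗ[ZMod p] ↥S) = 1
      suffices h : LinearEquiv.det (ρ ⟨g, hg⟩) = 1 by
        rw [← LinearEquiv.coe_det, h, Units.val_one]
      induction hg using Subgroup.closure_induction with
      | mem g hg =>
        obtain ⟨hgH, x, hx, φ, hφ, h0, hgy⟩ := hg
        ext
        rw [LinearEquiv.coe_det, Units.val_one,
          show (ρ ⟨g, _⟩ : ↥S →ₗ[ZMod p] ↥S) =
            LinearMap.transvection (φ ∘ₗ S.subtype) (⟨x, hx⟩ : ↥S) from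
            LinearMap.ext fun v => Subtype.ext (hgy v), LinearMap.transvection.det]
        simp [h0]
      | one => exact map_one (LinearEquiv.det.comp ρ)
      | mul a b ha hb ha' hb' =>
        have := map_mul (LinearEquiv.det.comp ρ) ⟨a, ha⟩ ⟨b, hb⟩
        rw [MonoidHom.comp_apply, MonoidHom.comp_apply, MonoidHom.comp_apply, ha', hb', one_mul] at this
        exact this
      | inv a ha ha' =>
        have := map_inv (LinearEquiv.det.comp ρ) ⟨a, ha⟩
        rw [MonoidHom.comp_apply, MonoidHom.comp_apply, ha', inv_one] at this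
        exact this
    · intro g hg
      refine det_one_mem ρ.range (fun f v hfv => ?_) g hg
      obtain ⟨φ, hφ, hφf⟩ := (blk_bij hb).2 f
      have h0 : φ (v : V) = 0 := by rw [hφf, hfv]
      obtain ⟨t, ht, hty⟩ := mk v v.2 φ hφ (hF v v.2 φ hφ h0)
      exact ⟨t, ht, fun y => Subtype.ext (by rw [hty, hφf]; rfl)⟩
  · right
    let B : LinearMap.BilinForm (ZMod p) ↥S := ((β ∘ₗ S.subtype).flip).domRestrict S
    have hB : ∀ x y : S, B x y = β (y : V) (x : V) := fun x y => rfl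
    have hskS : ∀ x y : S, B x y = -B y x := fun x y => hsk x x.2 y y.2
    refine ⟨B, fun x => (hβΦ x x.2).1, ⟨fun x hx => ?_, fun y hy => ?_⟩, Set.Subset.antisymm ?_ ?_⟩
    · refine Subtype.ext (hb.nondeg x x.2 fun φ hφ => ?_)
      obtain ⟨y, hy, rfl⟩ := hβsurj φ hφ
      exact hx ⟨y, hy⟩
    · refine Subtype.ext (hb.nondeg y y.2 fun φ hφ => ?_)
      obtain ⟨x, hx, rfl⟩ := hβsurj φ hφ
      show B y ⟨x, hx⟩ = 0
      rw [hskS, hy, neg_zero]
    · rintro f ⟨⟨g, hg⟩, rfl⟩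
      show ∀ x y, B (ρ ⟨g, hg⟩ x) (ρ ⟨g, hg⟩ y) = B x y
      induction hg using Subgroup.closure_induction with
      | mem g hg =>
        obtain ⟨hgH, x, hx, φ, hφ, h0, hgy⟩ := hg
        intro a b
        have ea : ∀ a : S, ρ ⟨g, Subgroup.subset_closure ⟨hgH, x, hx, φ, hφ, h0, hgy⟩⟩ a =
            a + φ a • (⟨x, hx⟩ : ↥S) := fun a => Subtype.ext (hgy a)
        rw [ea, ea]
        by_cases hx0 : (⟨x, hx⟩ : ↥S) = 0
        · simp [hx0]
        obtain ⟨c, rfl⟩ := huniq x hx (fun h => hx0 (Subtype.ext h)) φ ⟨h0, g, hgH, hgy⟩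
        simp only [map_add, map_smul, LinearMap.add_apply, LinearMap.smul_apply, smul_eq_mul]
        rw [hskS ⟨x, hx⟩ b, hB b ⟨x, hx⟩, hB a ⟨x, hx⟩, hB ⟨x, hx⟩ ⟨x, hx⟩,
          show β x x = 0 from (hβΦ x hx).1]
        ring
      | one => intro a b; rw [show (⟨1, Subgroup.one_mem _⟩ : ↥K) = 1 from rfl, map_one]; rfl
      | mul a b ha hb' ha' hb'' =>
        intro x y
        rw [show (⟨a * b, mul_mem ha hb'⟩ : ↥K) = ⟨a, ha⟩ * ⟨b, hb'⟩ from rfl, map_mul,
          LinearEquiv.mul_apply, LinearEquiv.mul_apply, ha', hb'']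
      | inv a ha ha' =>
        intro x y
        rw [show (⟨a⁻¹, inv_mem ha⟩ : ↥K) = (⟨a, ha⟩ : ↥K)⁻¹ from rfl, map_inv]
        conv_rhs => rw [← (ρ ⟨a, ha⟩).apply_symm_apply x, ← (ρ ⟨a, ha⟩).apply_symm_apply y, ha']
        rfl
    · intro g hg
      refine isometry_mem B (fun x => (hβΦ x x.2).1) ⟨fun x hx => ?_, fun y hy => ?_⟩ ρ.range
        (fun c v => ?_) g hg
      · refine Subtype.ext (hb.nondeg x x.2 fun φ hφ => ?_)
        obtain ⟨y, hy, rfl⟩ := hβsurj φ hφ
        exact hx ⟨y, hy⟩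
      · refine Subtype.ext (hb.nondeg y y.2 fun φ hφ => ?_)
        obtain ⟨x, hx, rfl⟩ := hβsurj φ hφ
        show B y ⟨x, hx⟩ = 0
        rw [hskS, hy, neg_zero]
      obtain ⟨t, ht, hty⟩ := mk v v.2 _ (A.smul_mem c (hβA v v.2))
        (hC.smul_right c _ _ (hβΦ v v.2))
      exact ⟨t, ht, fun y => Subtype.ext (by rw [hty, hB]; simp)⟩

theorem main [Finite V] (hp : Odd p) (H : Subgroup (V ≃ₗ[ZMod p] V)) (T : Set (V ≃ₗ[ZMod p] V))
    (hHT : H = Subgroup.closure T)
    (hT : ∀ t ∈ T, orderOf t = p ∧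
      finrank (ZMod p) ↥(LinearMap.ker ((t : V →ₗ[ZMod p] V) - LinearMap.id)) + 1 =
        finrank (ZMod p) V)
    (hOp : Cfsg.pCore p ↥H = ⊥) :
    ∃ (n : ℕ) (W : Fin (n + 1) → Submodule (ZMod p) V) (K : Fin n → Subgroup (V ≃ₗ[ZMod p] V)),
      1 ≤ n ∧ DirectSum.IsInternal W ∧
      (∀ h ∈ H, ∀ i, (W i).map (h : V →ₗ[ZMod p] V) = W i) ∧
      (∀ j, K j ≤ H ∧ ((K j).subgroupOf H).Normal) ∧ ⨆ j, K j = H ∧
      (∀ j, K j ⊓ (⨆ j' ∈ {j' : Fin n | j' ≠ j}, K j') = ⊥) ∧
      (∀ j j', j ≠ j' → ∀ a ∈ K j, ∀ b ∈ K j', a * b = b * a) ∧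
      (∀ j, ∀ h ∈ K j, ∀ i : Fin (n + 1), i ≠ j.succ → ∀ v ∈ W i, h v = v) ∧
      (∀ j, ∃ ρ : ↥(K j) →* (↥(W j.succ) ≃ₗ[ZMod p] ↥(W j.succ)),
        (∀ (h : ↥(K j)) (v : ↥(W j.succ)), ((ρ h v : ↥(W j.succ)) : V) = (h : V ≃ₗ[ZMod p] V) (v : V)) ∧
        ((ρ.range : Set (↥(W j.succ) ≃ₗ[ZMod p] ↥(W j.succ))) =
            {f : ↥(W j.succ) ≃ₗ[ZMod p] ↥(W j.succ) | LinearMap.det (f : ↥(W j.succ) →ₗ[ZMod p] ↥(W j.succ)) = 1} ∨
          ∃ B : LinearMap.BilinForm (ZMod p) ↥(W j.succ), B.IsAlt ∧ B.Nondegenerate ∧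
            (ρ.range : Set (↥(W j.succ) ≃ₗ[ZMod p] ↥(W j.succ))) = {f : ↥(W j.succ) ≃ₗ[ZMod p] ↥(W j.succ) | ∀ x y, B (f x) (f y) = B x y})) := by
  classical
  haveI : FiniteDimensional (ZMod p) V := Module.Finite.of_finite
  haveI : Finite (V →ₗ[ZMod p] ZMod p) := Finite.of_injective (fun f => (f : V → ZMod p)) DFunLike.coe_injective
  haveI : Finite (Submodule (ZMod p) V) := Finite.of_injective _ SetLike.coe_injective
  haveI : Finite (Submodule (ZMod p) (V →ₗ[ZMod p] ZMod p)) := Finite.of_injective _ SetLike.coe_injective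
  have hC := cfg (V := V) hp hOp
  -- a family of blocks, pairwise orthogonal, containing every generator
  obtain ⟨n, S, A, hn, hblk, horth, hcov⟩ : ∃ (n : ℕ) (S : Fin n → Submodule (ZMod p) V)
      (A : Fin n → Submodule (ZMod p) (V →ₗ[ZMod p] ZMod p)), 1 ≤ n ∧
      (∀ j, Blk (ev p V) (tvs H) (S j) (A j)) ∧
      (∀ i j, i ≠ j → ∀ x ∈ S i, ∀ φ ∈ A j, φ x = 0) ∧
      ∀ t ∈ T, ∃ j, t ∈ gens H (S j) (A j) := by
    let P := {P : Submodule (ZMod p) V × Submodule (ZMod p) (V →ₗ[ZMod p] ZMod p) //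
      Blk (ev p V) (tvs H) P.1 P.2 ∧ P.1 ≠ ⊥}
    have hcov : ∀ t ∈ T, ∃ P : P, t ∈ gens H P.1.1 P.1.2 := fun t ht => by
      have htH : t ∈ H := hHT ▸ Subgroup.subset_closure ht
      obtain ⟨x, φ, hx, hφ, hxφ, hty⟩ := tvs_of_fixes htH (hT t ht).1 (hT t ht).2
      obtain ⟨S, A, hb, hxS, hφA⟩ := exists_blk hC hxφ hx hφ
      exact ⟨⟨(S, A), hb, fun h => hx ((Submodule.mem_bot _).1 ((show S = ⊥ from h) ▸ hxS))⟩, htH, x, hxS, φ, hφA, hxφ.1, hty⟩
    by_cases hP : IsEmpty P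
    · exact ⟨1, fun _ => ⊥, fun _ => ⊥, le_rfl, fun _ =>
        ⟨fun x hx _ => (Submodule.mem_bot _).1 hx, fun φ hφ _ => (Submodule.mem_bot _).1 hφ,
          fun u χ _ _ _ => Or.inr ⟨fun φ hφ => by rw [(Submodule.mem_bot _).1 hφ, map_zero],
            fun x hx => by rw [(Submodule.mem_bot _).1 hx, map_zero, LinearMap.zero_apply]⟩,
          fun x hx hx0 => absurd ((Submodule.mem_bot _).1 hx) hx0,
          fun φ hφ hφ0 => absurd ((Submodule.mem_bot _).1 hφ) hφ0,
          Or.inl fun x hx φ _ _ => (Submodule.mem_bot _).1 hx ▸ hC.zero_left φ⟩,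
        fun i j h => absurd (Subsingleton.elim i j) h,
        fun t ht => (hP.false (hcov t ht).choose).elim⟩
    rw [not_isEmpty_iff] at hP
    haveI : Fintype P := Fintype.ofFinite P
    set e := (Fintype.equivFin P).symm
    refine ⟨Fintype.card P, fun j => (e j).1.1, fun j => (e j).1.2, Fintype.card_pos,
      fun j => (e j).2.1, fun i j hij x hx φ hφ => ?_, fun t ht => ?_⟩
    · by_cases hx0 : x = 0
      · rw [hx0, map_zero]
      obtain ⟨γ, hγ, hγ0, hxγ⟩ := (e i).2.1.centre x hx hx0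
      rcases (e j).2.1.closed x γ hxγ hx0 hγ0 with ⟨hx', hγ'⟩ | h
      · refine absurd (e.injective (Subtype.ext (Prod.ext ?_ ?_))) hij
        · exact le_antisymm (blk_le hC (e i).2.1 (e j).2.1 hx hγ hγ0 hx' hx0 hxγ).1
            (blk_le hC (e j).2.1 (e i).2.1 hx' hγ' hγ0 hx hx0 hxγ).1
        · exact le_antisymm (blk_le hC (e i).2.1 (e j).2.1 hx hγ hγ0 hx' hx0 hxγ).2
            (blk_le hC (e j).2.1 (e i).2.1 hx' hγ' hγ0 hx hx0 hxγ).2
      · exact h.1 φ hφ
    · obtain ⟨Q, hQ⟩ := hcov t ht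
      refine ⟨e.symm Q, ?_⟩
      simpa only [Equiv.apply_symm_apply] using hQ
  set W0 : Submodule (ZMod p) V := ⨅ j, (A j).dualCoannihilator with hW0
  have hW0m : ∀ y, y ∈ W0 ↔ ∀ j, ∀ φ ∈ A j, φ y = 0 := fun y => by
    simp [hW0, Submodule.mem_iInf, Submodule.mem_dualCoannihilator]
  set W : Fin (n + 1) → Submodule (ZMod p) V := Fin.cons W0 S with hW
  have hWs : ∀ j : Fin n, W j.succ = S j := fun j => rfl
  -- generators of a block fix the other components
  have gfix : ∀ j, ∀ g ∈ gens H (S j) (A j), ∀ i : Fin (n + 1), i ≠ j.succ → ∀ y ∈ W i, g y = y := by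
    rintro j g ⟨-, x, hx, φ, hφ, -, hgy⟩ i hi y hy
    have : φ y = 0 := by
      induction i using Fin.cases with
      | zero => exact (hW0m y).1 hy j φ hφ
      | succ k => exact horth k j (fun h => hi (by rw [h])) y hy φ hφ
    rw [hgy, this, zero_smul, add_zero]
  have hinv : ∀ h ∈ H, ∀ i, (W i).map (h : V →ₗ[ZMod p] V) = W i := by
    intro h hh i
    rw [hHT] at hh
    induction hh using Subgroup.closure_induction with
    | mem g hg =>
      obtain ⟨j, hj⟩ := hcov g hg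
      refine Submodule.eq_of_le_of_finrank_eq ?_ (LinearEquiv.finrank_map_eq g (W i))
      rintro _ ⟨y, hy, rfl⟩
      by_cases hi : i = j.succ
      · subst hi
        obtain ⟨-, x, hx, φ, -, -, hgy⟩ := hj
        show g y ∈ _
        rw [hgy]
        exact add_mem hy (Submodule.smul_mem _ _ hx)
      · show g y ∈ _
        rw [gfix j g hj i hi y hy]; exact hy
    | one => exact Submodule.map_id _
    | mul a b _ _ ha hb =>
      rw [show ((a * b : V ≃ₗ[ZMod p] V) : V →ₗ[ZMod p] V) = (a : V →ₗ[ZMod p] V).comp (b : V →ₗ[ZMod p] V)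
        from rfl, Submodule.map_comp, hb, ha]
    | inv a _ ha =>
      conv_lhs => rw [← ha]
      rw [← Submodule.map_comp, show ((a⁻¹ : V ≃ₗ[ZMod p] V) : V →ₗ[ZMod p] V).comp (a : V →ₗ[ZMod p] V) =
        LinearMap.id from LinearMap.ext a.symm_apply_apply, Submodule.map_id]
  set K : Fin n → Subgroup (V ≃ₗ[ZMod p] V) := fun j => Subgroup.closure (gens H (S j) (A j)) with hK
  have hKH : ∀ j, K j ≤ H := fun j => (Subgroup.closure_le H).2 fun g hg => hg.1
  have hKfix : ∀ j, ∀ h ∈ K j, ∀ i : Fin (n + 1), i ≠ j.succ → ∀ y ∈ W i, h y = y := by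
    intro j h hh i hi
    have hle : K j ≤ fixingSubgroup (V ≃ₗ[ZMod p] V) (W i : Set V) := (Subgroup.closure_le _).2
      fun g hg => (mem_fixingSubgroup_iff _).2 fun y hy => gfix j g hg i hi y hy
    exact fun y hy => (mem_fixingSubgroup_iff _).1 (hle hh) y hy
  -- the decomposition
  have htop : ⨆ i, W i = ⊤ := by
    refine eq_top_iff.2 fun y _ => ?_
    choose s hs hsy using fun j => (blk_bij (hblk j)).1 y
    have h0 : y - ∑ j, s j ∈ W0 := (hW0m _).2 fun j φ hφ => by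
      rw [map_sub, map_sum, Finset.sum_eq_single j (fun k _ hk => horth k j hk _ (hs k) φ hφ)
        (fun h => absurd (Finset.mem_univ j) h), hsy j φ hφ, sub_self]
    rw [← sub_add_cancel y (∑ j, s j)]
    exact add_mem (Submodule.mem_iSup_of_mem 0 h0)
      (sum_mem fun j _ => Submodule.mem_iSup_of_mem j.succ (hs j))
  have hind : iSupIndep W := by
    rw [iSupIndep_def]
    intro i
    rw [Submodule.disjoint_def]
    intro y hy hy'
    -- every block pairs to zero with the other components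
    have key : ∀ j : Fin n, ∀ k : Fin (n + 1), k ≠ j.succ → ∀ φ ∈ A j, W k ≤ LinearMap.ker φ := by
      intro j k hk φ hφ z hz
      induction k using Fin.cases with
      | zero => exact (hW0m z).1 hz j φ hφ
      | succ l => exact horth l j (fun h => hk (by rw [h])) z hz φ hφ
    induction i using Fin.cases with
    | succ j => exact (hblk j).nondeg y hy fun φ hφ => (iSup₂_le fun k hk => key j k hk φ hφ) hy'
    | zero =>
      have hS : (⨆ k ≠ (0 : Fin (n + 1)), W k) ≤ ⨆ j, S j := iSup₂_le fun k hk => by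
        obtain ⟨j, rfl⟩ := Fin.exists_succ_eq.2 hk
        exact le_iSup S j
      obtain ⟨f, hf, hfy⟩ := (Submodule.mem_iSup_iff_exists_finsupp S y).1 (hS hy')
      have hf0 : ∀ j, f j = 0 := fun j => (hblk j).nondeg _ (hf j) fun φ hφ => by
        have h1 := (hW0m y).1 hy j φ hφ
        rw [← hfy, map_finsuppSum, Finsupp.sum_eq_single j
          (fun k _ hk => horth k j hk _ (hf k) φ hφ) (fun _ => map_zero φ)] at h1
        exact h1
      rw [← hfy]
      exact Finset.sum_eq_zero fun j _ => hf0 j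
  have hext : ∀ a b : V ≃ₗ[ZMod p] V, (∀ i, ∀ y ∈ W i, a y = b y) → a = b := fun a b h => by
    refine LinearEquiv.toLinearMap_injective (LinearMap.ext fun y => ?_)
    have : (⊤ : Submodule (ZMod p) V) ≤ LinearMap.eqLocus (a : V →ₗ[ZMod p] V) b :=
      htop ▸ iSup_le fun i y hy => h i y hy
    exact this Submodule.mem_top
  refine ⟨n, W, K, hn, DirectSum.isInternal_submodule_of_iSupIndep_of_iSup_eq_top hind htop, hinv,
    fun j => ⟨hKH j, ?_⟩, ?_, fun j => ?_, fun j j' hjj' a ha b hb => hext _ _ fun i y hy => ?_,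
    hKfix, fun j => ?_⟩
  · refine ⟨fun k hk h => ?_⟩
    rw [Subgroup.mem_subgroupOf] at hk ⊢
    rw [Subgroup.coe_mul, Subgroup.coe_mul, Subgroup.coe_inv]
    set h' := (h : V ≃ₗ[ZMod p] V)
    have hh : h' ∈ H := h.2
    suffices hc : K j ≤ (K j).comap (MulAut.conj h').toMonoidHom from hc hk
    refine (Subgroup.closure_le _).2 ?_
    rintro g ⟨hgH, x, hx, φ, hφ, h0, hgy⟩
    show h' * g * h'⁻¹ ∈ K j
    by_cases hx0 : x = 0
    · rw [show g = 1 from LinearEquiv.ext fun y => by rw [hgy, hx0, smul_zero, add_zero]; rfl]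
      simp
    have hxS : h' x ∈ S j := by
      rw [← hWs, ← hinv h' hh j.succ]; exact Submodule.mem_map_of_mem hx
    have hcy : ∀ z, (h' * g * h'⁻¹) z = z + (φ ∘ₗ (h'.symm : V →ₗ[ZMod p] V)) z • h' x := fun z => by
      rw [LinearEquiv.mul_apply, LinearEquiv.mul_apply, hgy, map_add, map_smul,
        show h' (h'⁻¹ z) = z from h'.apply_symm_apply z]
      rfl
    have h0' : (φ ∘ₗ (h'.symm : V →ₗ[ZMod p] V)) (h' x) = 0 := by simp [h0]
    have hm : h' * g * h'⁻¹ ∈ H := H.mul_mem (H.mul_mem hh hgH) (H.inv_mem hh)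
    exact Subgroup.subset_closure ⟨hm, _, hxS, _, axis_mem hC (hblk j) hxS
      (by simpa using hx0) ⟨h0', _, hm, hcy⟩, h0', hcy⟩
  · refine le_antisymm (iSup_le hKH) ?_
    conv_lhs => rw [hHT]
    refine (Subgroup.closure_le _).2 fun t ht => ?_
    obtain ⟨j, hj⟩ := hcov t ht
    exact (le_iSup K j) (Subgroup.subset_closure hj)
  · refine eq_bot_iff.2 fun g hg => ?_
    obtain ⟨hg1, hg2⟩ := Subgroup.mem_inf.1 hg
    have hle : (⨆ j' ∈ {j' : Fin n | j' ≠ j}, K j') ≤
        fixingSubgroup (V ≃ₗ[ZMod p] V) (W j.succ : Set V) := iSup₂_le fun j' hj' g hg =>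
      (mem_fixingSubgroup_iff _).2 fun y hy =>
        hKfix j' g hg j.succ (fun h => hj' (Fin.succ_injective _ h).symm) y hy
    refine Subgroup.mem_bot.2 (hext g 1 fun i y hy => ?_)
    show g y = y
    by_cases hi : i = j.succ
    · subst hi
      exact (mem_fixingSubgroup_iff _).1 (hle hg2) y hy
    · exact hKfix j g hg1 i hi y hy
  · have mem : ∀ h ∈ H, h y ∈ W i := fun h hh => hinv h hh i ▸ Submodule.mem_map_of_mem hy
    rw [LinearEquiv.mul_apply, LinearEquiv.mul_apply]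
    by_cases hi : i = j.succ
    · have hi' : i ≠ j'.succ := fun h => hjj' (Fin.succ_injective _ (hi.symm.trans h))
      rw [hKfix j' b hb i hi' y hy, hKfix j' b hb i hi' _ (mem a (hKH j ha))]
    · rw [hKfix j a ha i hi _ (mem b (hKH j' hb)), hKfix j a ha i hi y hy]
  · exact block_action hp hOp (hblk j) (fun g hg => hinv g (hKH j hg) j.succ)

end CfsgLib.McLaughlin
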